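import Mathlib
import Cfsg.Agent.Lib.ClassSize.Counting
import Cfsg.Agent.Lib.ClassSize.Cover

/-!
Products of conjugacy classes of coprime size.
-/

set_option autoImplicit false

namespace Cfsg.Agent.Lib.ClassSizeTop

open Subgroup

variable {G : Type*} [Group G]

/-- The size of the class of `x`. -/
noncomputable def idx (x : G) : ℕ := (centralizer ({x} : Set G)).index

/-- The class of `x`. -/
def cls (x : G) : Set G := {t | ∃ g : G, g * x * g⁻¹ = t}

theorem mem_cent {x g : G} : g ∈ centralizer ({x} : Set G) ↔ g * x = x * g :=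
  mem_centralizer_singleton_iff

theorem mem_cent_iff_conj {x g : G} : g ∈ centralizer ({x} : Set G) ↔ g * x * g⁻¹ = x := by
  rw [mem_cent, mul_inv_eq_iff_eq_mul]

theorem cent_mul_central {z v : G} (hz : z ∈ center G) :
    centralizer ({z * v} : Set G) = centralizer ({v} : Set G) := by
  ext g
  rw [mem_cent, mem_cent, ← mul_assoc, mem_center_iff.1 hz g, mul_assoc, mul_assoc, mul_right_inj]

theorem idx_mul_central {z v : G} (hz : z ∈ center G) : idx (z * v) = idx v :=
  congrArg Subgroup.index (cent_mul_central hz)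

theorem cent_conj (g x : G) :
    centralizer ({g * x * g⁻¹} : Set G) =
      (centralizer ({x} : Set G)).map (MulAut.conj g).toMonoidHom := by
  ext w
  rw [mem_cent, Subgroup.mem_map]
  constructor
  · intro hw
    refine ⟨g⁻¹ * w * g, ?_, by simp [mul_assoc]⟩
    rw [mem_cent]
    calc g⁻¹ * w * g * x = g⁻¹ * (w * (g * x * g⁻¹)) * g := by group
      _ = x * (g⁻¹ * w * g) := by rw [hw]; group
  · rintro ⟨v, hv, rfl⟩
    rw [mem_cent] at hv
    simp only [MulEquiv.coe_toMonoidHom, MulAut.conj_apply]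
    calc g * v * g⁻¹ * (g * x * g⁻¹) = g * (v * x) * g⁻¹ := by group
      _ = g * x * g⁻¹ * (g * v * g⁻¹) := by rw [hv]; group

theorem idx_conj (g x : G) : idx (g * x * g⁻¹) = idx x := by
  unfold idx
  rw [cent_conj]
  exact index_map_equiv _ (MulAut.conj g)

theorem self_mem_cls (x : G) : x ∈ cls x := ⟨1, by simp⟩

theorem conj_mem_cls {x t : G} (h : t ∈ cls x) (g : G) : g * t * g⁻¹ ∈ cls x := by
  obtain ⟨k, rfl⟩ := h
  exact ⟨g * k, by group⟩

theorem card_cls (x : G) : Nat.card (cls x) = idx x := by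
  unfold idx
  rw [index_eq_card]
  symm
  refine Nat.card_congr (Equiv.ofBijective
    (fun q => Quotient.liftOn' q (fun g : G => (⟨g * x * g⁻¹, g, rfl⟩ : cls x)) ?_) ⟨?_, ?_⟩)
  · intro a b hab
    rw [QuotientGroup.leftRel_apply, mem_cent_iff_conj] at hab
    apply Subtype.ext
    calc a * x * a⁻¹ = a * (a⁻¹ * b * x * (a⁻¹ * b)⁻¹) * a⁻¹ := by rw [hab]
      _ = b * x * b⁻¹ := by group
  · intro p q
    induction p using QuotientGroup.induction_on with
    | _ a =>
      induction q using QuotientGroup.induction_on with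
      | _ b =>
        intro h
        have h' : a * x * a⁻¹ = b * x * b⁻¹ := congrArg Subtype.val h
        rw [QuotientGroup.eq, mem_cent_iff_conj]
        calc a⁻¹ * b * x * (a⁻¹ * b)⁻¹ = a⁻¹ * (b * x * b⁻¹) * a := by group
          _ = x := by rw [← h']; group
  · rintro ⟨_, g, rfl⟩
    exact ⟨QuotientGroup.mk g, rfl⟩

variable [Finite G]

theorem idx_pos (x : G) : 0 < idx x := Nat.pos_of_ne_zero FiniteIndex.index_ne_zero

theorem idx_eq_one_iff {x : G} : idx x = 1 ↔ x ∈ center G := by
  unfold idx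
  rw [index_eq_one, mem_center_iff, eq_top_iff']
  exact forall_congr' fun g => mem_cent

theorem eq_of_le_of_index_le {A B : Subgroup G} (h : A ≤ B) (hi : A.index ≤ B.index) : A = B := by
  refine le_antisymm h ?_
  rw [← relIndex_eq_one]
  have h1 := relIndex_mul_index h
  have hB : 0 < B.index := Nat.pos_of_ne_zero FiniteIndex.index_ne_zero
  have h2 : A.relIndex B ≠ 0 := FiniteIndex.index_ne_zero
  rcases Nat.lt_or_ge 1 (A.relIndex B) with h3 | h3
  · have := lt_mul_of_one_lt_left hB h3
    omega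
  · omega

theorem index_inf_of_coprime {A B : Subgroup G} (h : A.index.Coprime B.index) :
    (A ⊓ B).index = A.index * B.index :=
  le_antisymm index_inf_le (Nat.le_of_dvd (Nat.pos_of_ne_zero FiniteIndex.index_ne_zero)
    (h.mul_dvd_of_dvd_of_dvd (index_dvd_of_le inf_le_left) (index_dvd_of_le inf_le_right)))

theorem class_product {a b : G} (h : (idx b).Coprime (idx a)) {t s : G} (ht : t ∈ cls b)
    (hs : s ∈ cls a) : t * s ∈ cls (b * a) := by
  obtain ⟨g, rfl⟩ := ht
  obtain ⟨k, rfl⟩ := hs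
  obtain ⟨c, hc, hd⟩ := ClassSize.exists_mem_mul_of_index_coprime _ _ h.symm (g⁻¹ * k)
  rw [mem_cent_iff_conj] at hc hd
  refine ⟨g * c, ?_⟩
  have h1 : c * a * c⁻¹ = g⁻¹ * k * a * (g⁻¹ * k)⁻¹ := by
    calc c * a * c⁻¹ = c * (c⁻¹ * (g⁻¹ * k) * a * (c⁻¹ * (g⁻¹ * k))⁻¹) * c⁻¹ := by rw [hd]
      _ = g⁻¹ * k * a * (g⁻¹ * k)⁻¹ := by group
  calc g * c * (b * a) * (g * c)⁻¹ = g * ((c * b * c⁻¹) * (c * a * c⁻¹)) * g⁻¹ := by group
    _ = g * b * g⁻¹ * (k * a * k⁻¹) := by rw [hc, h1]; group

theorem idx_le_idx_mul {a b : G} (h : (idx b).Coprime (idx a)) : idx b ≤ idx (b * a) := by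
  rw [← card_cls, ← card_cls]
  exact Nat.card_le_card_of_injective
    (fun t : cls b => (⟨t * a, class_product h t.2 (self_mem_cls a)⟩ : cls (b * a)))
    fun s t e => Subtype.ext (mul_right_cancel (congrArg Subtype.val e))

theorem idx_le_idx_mul' {a b : G} (h : (idx b).Coprime (idx a)) : idx a ≤ idx (b * a) := by
  rw [← card_cls, ← card_cls]
  exact Nat.card_le_card_of_injective
    (fun t : cls a => (⟨b * t, class_product h (self_mem_cls b) t.2⟩ : cls (b * a)))
    fun s t e => Subtype.ext (mul_left_cancel (congrArg Subtype.val e))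

theorem idx_mul_dvd {a b : G} (h : (idx b).Coprime (idx a)) : idx (b * a) ∣ idx b * idx a := by
  unfold idx at h ⊢
  rw [← index_inf_of_coprime h]
  refine index_dvd_of_le fun g hg => ?_
  rw [mem_inf, mem_cent, mem_cent] at hg
  rw [mem_cent, ← mul_assoc, hg.1, mul_assoc, hg.2, ← mul_assoc]

/-- The elements permuting the class of `y` by right multiplication. -/
def rightStab (y : G) : Subgroup G where
  carrier := {c | ∀ t, t ∈ cls y ↔ t * c ∈ cls y}
  one_mem' := fun t => by simp
  mul_mem' {a b} ha hb := fun t => by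
    rw [ha t, hb (t * a), mul_assoc]
  inv_mem' {a} ha := fun t => by
    rw [ha (t * a⁻¹)]; simp

instance rightStab_normal (y : G) : (rightStab y).Normal := by
  refine ⟨fun c hc g t => ?_⟩
  constructor
  · intro ht
    have := conj_mem_cls ((hc _).1 (conj_mem_cls ht g⁻¹)) g
    simpa [mul_assoc] using this
  · intro ht
    have h1 := conj_mem_cls ht g⁻¹
    have h2 : g⁻¹ * t * g ∈ cls y := by
      refine (hc _).2 ?_
      simpa [mul_assoc] using h1
    have := conj_mem_cls h2 g
    simpa [mul_assoc] using this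

theorem card_rightStab_dvd (y : G) : Nat.card (rightStab y) ∣ idx y := by
  rw [← card_cls]
  set S := rightStab y
  have hpre : (QuotientGroup.mk ⁻¹' (QuotientGroup.mk '' cls y : Set (G ⧸ S))) = cls y := by
    refine Set.Subset.antisymm ?_ (Set.subset_preimage_image _ _)
    rintro t ⟨t', ht', he⟩
    have := (QuotientGroup.eq.1 he) t'
    rw [mul_inv_cancel_left] at this
    exact this.1 ht'
  have := Nat.card_congr
    (QuotientGroup.preimageMkEquivSubgroupProdSet S (QuotientGroup.mk '' cls y))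
  rw [hpre, Nat.card_prod] at this
  exact ⟨_, this⟩

theorem mem_rightStab_of_idx_eq {a b : G} (h : (idx b).Coprime (idx a))
    (he : idx (b * a) = idx b) (g : G) : g * a * g⁻¹ * a⁻¹ ∈ rightStab b := by
  have hsurj : ∀ s ∈ cls a, ∀ k ∈ cls (b * a), k * s⁻¹ ∈ cls b := by
    intro s hs
    have hbij : Function.Bijective
        (fun t : cls b => (⟨t * s, class_product h t.2 hs⟩ : cls (b * a))) := by
      refine Function.Injective.bijective_of_nat_card_le
        (fun t t' e => Subtype.ext (mul_right_cancel (congrArg Subtype.val e))) (le_of_eq ?_)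
      rw [card_cls, card_cls, he]
    intro k hk
    obtain ⟨t, ht⟩ := hbij.2 ⟨k, hk⟩
    have : (t : G) * s = k := congrArg Subtype.val ht
    rw [← this, mul_inv_cancel_right]
    exact t.2
  intro t
  constructor
  · intro ht
    have := hsurj a (self_mem_cls a) _ (class_product h ht ⟨g, rfl⟩)
    simpa [mul_assoc] using this
  · intro ht
    have := hsurj _ ⟨g, rfl⟩ _ (class_product h ht (self_mem_cls a))
    simpa [mul_assoc] using this

/-- A normal subgroup of order coprime to a class size centralizes the element. -/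
theorem le_cent_of_coprime (N : Subgroup G) [N.Normal] {a : G}
    (h : (Nat.card N).Coprime (idx a)) : N ≤ centralizer ({a} : Set G) := by
  set C := centralizer ({a} : Set G) with hC
  rw [← relIndex_eq_one]
  refine Nat.eq_one_of_dvd_coprimes h (index_dvd_card (C.subgroupOf N)) ?_
  have h1 : C.relIndex N * N.index = N.relIndex C * C.index := by
    rw [← inf_relIndex_right, relIndex_mul_index inf_le_right, inf_comm,
      ← inf_relIndex_right N C, relIndex_mul_index inf_le_right]
  have h2 : N.relIndex C ∣ N.index := relIndex_dvd_index_of_normal N C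
  have h3 : C.relIndex N * N.index ∣ C.index * N.index := by
    rw [h1, mul_comm C.index]; exact Nat.mul_dvd_mul_right h2 _
  exact (Nat.mul_dvd_mul_iff_right (Nat.pos_of_ne_zero FiniteIndex.index_ne_zero)).1 h3

/-- Averaging: a class lying in a coset of an abelian normal subgroup of coprime order meets
`Z(G) N`. -/
theorem exists_central_mul (N : Subgroup G) [hN : N.Normal]
    (hcomm : ∀ x ∈ N, ∀ y ∈ N, x * y = y * x) {a : G} (hcop : (Nat.card N).Coprime (idx a))
    (hmem : ∀ g, g * a * g⁻¹ * a⁻¹ ∈ N) : ∃ z ∈ center G, ∃ c ∈ N, a = z * c := by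
  classical
  letI : CommGroup N :=
    { (inferInstance : Group N) with mul_comm := fun x y => Subtype.ext (hcomm x x.2 y y.2) }
  set C := centralizer ({a} : Set G) with hC
  haveI : Fintype (G ⧸ C) := Fintype.ofFinite _
  let F : G ⧸ C → N := fun q => Quotient.liftOn' q
    (fun g => (⟨g * a * g⁻¹ * a⁻¹, hmem g⟩ : N)) (by
      intro x y hxy
      rw [QuotientGroup.leftRel_apply, hC, mem_cent_iff_conj] at hxy
      apply Subtype.ext
      calc x * a * x⁻¹ * a⁻¹ = x * (x⁻¹ * y * a * (x⁻¹ * y)⁻¹) * x⁻¹ * a⁻¹ := by rw [hxy]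
        _ = y * a * y⁻¹ * a⁻¹ := by group)
  set P := ∏ q : G ⧸ C, F q with hP
  have hshift : ∀ k : G, P = MulAut.conjNormal k P * F (QuotientGroup.mk k) ^ idx a := by
    intro k
    calc P = ∏ q : G ⧸ C, F (k • q) :=
          (Fintype.prod_equiv (MulAction.toPerm k) (fun q => F (k • q)) F fun q => rfl).symm
      _ = ∏ q : G ⧸ C, MulAut.conjNormal k (F q) * F (QuotientGroup.mk k) := by
          refine Finset.prod_congr rfl fun q _ => ?_
          induction q using QuotientGroup.induction_on with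
          | _ g =>
            apply Subtype.ext
            show k * g * a * (k * g)⁻¹ * a⁻¹ =
              ((MulAut.conjNormal k (F (QuotientGroup.mk g)) : N) : G) * (k * a * k⁻¹ * a⁻¹)
            rw [MulAut.conjNormal_apply]
            show k * g * a * (k * g)⁻¹ * a⁻¹ =
              k * (g * a * g⁻¹ * a⁻¹) * k⁻¹ * (k * a * k⁻¹ * a⁻¹)
            group
      _ = MulAut.conjNormal k P * F (QuotientGroup.mk k) ^ idx a := by
          rw [Finset.prod_mul_distrib, ← map_prod, Finset.prod_const, Finset.card_univ,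
            ← Nat.card_eq_fintype_card, ← index_eq_card]
          rfl
  obtain ⟨l, hl⟩ := exists_pow_eq_self_of_coprime (x := P) (n := idx a)
    (Nat.Coprime.coprime_dvd_right (orderOf_dvd_natCard P) hcop.symm)
  set c := P ^ l with hc
  have hkey : ∀ k : G, c = MulAut.conjNormal k c * F (QuotientGroup.mk k) := by
    intro k
    have h1 : c ^ idx a = (MulAut.conjNormal k c * F (QuotientGroup.mk k)) ^ idx a := by
      rw [mul_pow, ← map_pow, hc, ← pow_mul, mul_comm l, pow_mul, hl]
      exact hshift k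
    exact (Nat.Coprime.pow_left_bijective hcop).1 h1
  refine ⟨(c : G) * a, ?_, ((c⁻¹ : N) : G), (c⁻¹).2, ?_⟩
  · rw [mem_center_iff]
    intro k
    have h := congrArg Subtype.val (hkey k)
    rw [Subgroup.coe_mul, MulAut.conjNormal_apply] at h
    change (c : G) = k * c * k⁻¹ * (k * a * k⁻¹ * a⁻¹) at h
    conv_rhs => rw [h]
    group
  · have hca : (c : G) * a = a * c :=
      mem_cent.1 (le_cent_of_coprime N hcop c.2)
    rw [hca, Subgroup.coe_inv, mul_inv_cancel_right]

omit [Finite G] in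
theorem mem_zpowers_mul {a b : G} (h : Commute a b) (hco : (orderOf a).Coprime (orderOf b)) :
    a ∈ zpowers (a * b) := by
  obtain ⟨l, hl⟩ := exists_pow_eq_self_of_coprime (x := a) (n := orderOf b) hco.symm
  refine ⟨((orderOf b * l : ℕ) : ℤ), ?_⟩
  show (a * b) ^ ((orderOf b * l : ℕ) : ℤ) = a
  rw [zpow_natCast, h.mul_pow, pow_mul, pow_mul, hl, pow_orderOf_eq_one, one_pow, mul_one]

omit [Finite G] in
theorem cent_mul_of_coprime {a b : G} (h : Commute a b) (hco : (orderOf a).Coprime (orderOf b)) :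
    centralizer ({a * b} : Set G) = centralizer ({a} : Set G) ⊓ centralizer ({b} : Set G) := by
  refine le_antisymm (fun g hg => ?_) fun g hg => ?_
  · have h1 : ∀ x ∈ zpowers (a * b), g ∈ centralizer ({x} : Set G) := by
      rintro _ ⟨i, rfl⟩
      exact mem_cent.2 ((Commute.zpow_right (mem_cent.1 hg) i).eq)
    refine mem_inf.2 ⟨h1 a (mem_zpowers_mul h hco), h1 b ?_⟩
    rw [h.eq]
    exact mem_zpowers_mul h.symm hco.symm
  · rw [mem_inf, mem_cent, mem_cent] at hg
    rw [mem_cent, ← mul_assoc, hg.1, mul_assoc, hg.2, ← mul_assoc]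

omit [Finite G] in
theorem cent_le_cent_of_mem_zpowers {a v : G} (h : a ∈ zpowers v) :
    centralizer ({v} : Set G) ≤ centralizer ({a} : Set G) := by
  obtain ⟨i, rfl⟩ := h
  exact fun g hg => mem_cent.2 ((Commute.zpow_right (mem_cent.1 hg) i).eq)

theorem exists_coprime_part {v : G} {N : ℕ} (hN : 0 < N) {o : ℕ} (ho : v ^ o ∈ center G)
    (hco : o.Coprime N) :
    ∃ z ∈ center G, ∃ w ∈ zpowers v, (orderOf w).Coprime N ∧ v = z * w := by
  set a := N ^ orderOf v with ha
  have hao : a.Coprime o := Nat.Coprime.pow_left _ hco.symm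
  have hgcd : Int.gcd (a : ℤ) (o : ℤ) = 1 := by rw [Int.gcd_natCast_natCast]; exact hao
  obtain ⟨x, y, hxy⟩ := Int.isCoprime_iff_gcd_eq_one.2 hgcd
  refine ⟨v ^ (y * o), ?_, v ^ (x * a), ⟨_, rfl⟩, ?_, ?_⟩
  · rw [mul_comm, zpow_mul, zpow_natCast]
    exact zpow_mem ho y
  · rw [Nat.coprime_comm]
    refine Nat.coprime_of_dvd fun p hp hpN hpw => ?_
    haveI := Fact.mk hp
    obtain ⟨e, b, hb, he⟩ :=
      Nat.exists_eq_pow_mul_and_not_dvd (orderOf_pos v).ne' p hp.ne_one
    have hea : p ^ e ∣ a := by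
      refine (Nat.pow_dvd_pow p ?_).trans (pow_dvd_pow_of_dvd hpN (orderOf v))
      calc e ≤ p ^ e := (Nat.lt_pow_self hp.one_lt).le
        _ ≤ orderOf v := by
          conv_rhs => rw [he]
          exact Nat.le_mul_of_pos_right _ (Nat.pos_of_ne_zero fun h => hb (h ▸ dvd_zero p))
    apply hb
    refine hpw.trans (orderOf_dvd_of_pow_eq_one ?_)
    obtain ⟨q, hq⟩ := hea
    rw [← zpow_natCast (v ^ (x * (a : ℤ))) b, ← zpow_mul, hq,
      show x * ((p ^ e * q : ℕ) : ℤ) * (b : ℤ) = ((p ^ e * b : ℕ) : ℤ) * (x * (q : ℤ)) by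
        push_cast; ring,
      ← he, zpow_mul, zpow_natCast, pow_orderOf_eq_one, one_zpow]
  · rw [← zpow_add, add_comm, hxy, zpow_one]

theorem not_dvd_relIndex_center {H : Subgroup G} {p : ℕ} [Fact p.Prime]
    (h : ∀ w ∈ H, (∃ k, orderOf w = p ^ k) → w ∈ center G) :
    ¬ p ∣ (center G).relIndex H := by
  obtain ⟨Q⟩ : Nonempty (Sylow p H) := inferInstance
  intro hd
  refine Q.not_dvd_index' FiniteIndex.index_ne_zero (hd.trans (index_dvd_of_le fun x hx => ?_))
  obtain ⟨k, hk⟩ := IsPGroup.iff_orderOf.1 Q.isPGroup' ⟨x, hx⟩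
  exact mem_subgroupOf.2 (h _ x.2 ⟨k, by
    rw [← hk, Subgroup.orderOf_coe]; exact orderOf_injective (Q : Subgroup H).subtype Subtype.val_injective ⟨x, hx⟩⟩)

end Cfsg.Agent.Lib.ClassSizeTop
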