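import Cfsg.Agent.Lib.ClassSizeTop.Main

/-!
Groups whose two largest class sizes are coprime: the Frobenius quotient.
-/

set_option autoImplicit false

namespace Cfsg.Agent.Lib.ClassSizeTop

open Subgroup

variable {G : Type*} [Group G] [Finite G]

namespace Top

variable {m n : ℕ} (T : Top G m n) {y : G} (hy : idx y = m)
include T hy

/-- Elements of coprime order commuting with an element whose centraliser is `H`. -/
theorem le_cent_of_coprime_order {a b : G} (hac : a ∉ center G)
    (ha : centralizer ({a} : Set G) = centralizer ({y} : Set G))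
    (hb : b ∈ centralizer ({y} : Set G)) (hco : (orderOf a).Coprime (orderOf b)) :
    centralizer ({y} : Set G) ≤ centralizer ({b} : Set G) := by
  have haH : a ∈ centralizer ({y} : Set G) := ha ▸ mem_cent.2 rfl
  have hcomm : Commute a b := (mem_cent.1 (ha.symm ▸ hb : b ∈ centralizer ({a} : Set G))).symm
  have hab : a * b ∈ centralizer ({y} : Set G) := mul_mem haH hb
  have habc : a * b ∉ center G := fun h =>
    hac ((zpowers_le.2 h) (mem_zpowers_mul hcomm hco))
  have hC := cent_mul_of_coprime hcomm hco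
  have hle : centralizer ({a * b} : Set G) ≤ centralizer ({y} : Set G) :=
    ha ▸ hC.trans_le inf_le_left
  have heq := eq_of_le_of_index_le hle (le_of_eq ((T.idx_eq_of_mem hy hab habc).trans hy.symm))
  exact heq ▸ hC.trans_le inf_le_right

/-- Two commuting elements of prime order modulo the centre generate a cyclic group modulo it. -/
theorem exists_mul_pow_mem_center {r : ℕ} [hr : Fact r.Prime] {a b : G}
    (ha : a ∈ centralizer ({y} : Set G)) (hb : b ∈ centralizer ({y} : Set G))
    (har : a ^ r ∈ center G) (hbr : b ^ r ∈ center G) (hab : a * b = b * a) (hbc : b ∉ center G)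
    (hrE : ¬ r ∣ Nat.card (topE G m)) : ∃ i : ℕ, a * b ^ i ∈ center G := by
  by_contra hno
  push Not at hno
  obtain ⟨u, hu, hun⟩ := T.exists_u
  set N := topE G m with hN
  letI : CommGroup N :=
    { (inferInstance : Group N) with mul_comm := fun x x' => Subtype.ext (T.topE_comm x x.2 x' x'.2) }
  set φ := MulAut.conjNormal (H := N) with hφ
  have hcentral : ∀ z ∈ center G, φ z = 1 := by
    intro z hz
    ext x
    rw [MulAut.conjNormal_apply, MulAut.one_apply, ← mem_center_iff.1 hz (x : G), mul_inv_cancel_right]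
  -- norms of fixed point free elements vanish
  have hnorm : ∀ g ∈ centralizer ({y} : Set G), g ^ r ∈ center G → g ∉ center G →
      ∀ x : N, ∏ j ∈ Finset.range r, φ (g ^ j) x = 1 := by
    intro g hg hgr hgc x
    set P := ∏ j ∈ Finset.range r, φ (g ^ j) x with hP
    have hfix : φ g P = P := by
      rw [hP, map_prod]
      have e : ∀ i, φ g (φ (g ^ i) x) = φ (g ^ (i + 1)) x := fun i => by
        rw [← MulAut.mul_apply, ← map_mul, pow_succ']
      simp only [e]
      apply mul_right_cancel (b := φ (g ^ 0) x)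
      rw [← Finset.prod_range_succ' (fun i => φ (g ^ i) x) r, Finset.prod_range_succ,
        hcentral _ hgr, pow_zero, map_one]
    have h2 := congrArg Subtype.val hfix
    rw [MulAut.conjNormal_apply, mul_inv_eq_iff_eq_mul] at h2
    exact Subtype.ext (T.fpf hy hg hgc P.2 h2)
  set x : N := ⟨u, hu⟩
  have h1 : ∀ i ∈ Finset.range r, ∏ j ∈ Finset.range r, φ ((a * b ^ i) ^ j) x = 1 := fun i _ =>
    hnorm _ (mul_mem ha (pow_mem hb i))
      (by
        rw [(show Commute a (b ^ i) from (show Commute a b from hab).pow_right i).mul_pow,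
          ← pow_mul, mul_comm i, pow_mul]
        exact mul_mem har (pow_mem hbr i))
      (hno i) x
  have h2 : ∀ j ∈ Finset.range r, j ≠ 0 → ∏ i ∈ Finset.range r, φ ((a * b ^ i) ^ j) x = 1 := by
    intro j hj hj0
    have e : ∀ i, φ ((a * b ^ i) ^ j) x = φ (a ^ j) (φ ((b ^ j) ^ i) x) := fun i => by
      rw [← MulAut.mul_apply, ← map_mul,
        (show Commute a (b ^ i) from (show Commute a b from hab).pow_right i).mul_pow,
        ← pow_mul, mul_comm i, pow_mul]
    simp only [e, ← map_prod]
    rw [hnorm (b ^ j) (pow_mem hb j) (by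
      rw [← pow_mul, mul_comm, pow_mul]; exact pow_mem hbr j) ?_ x, map_one]
    intro h
    apply hbc
    have hco : Int.gcd (j : ℤ) (r : ℤ) = 1 := by
      rw [Int.gcd_natCast_natCast]
      exact Nat.Coprime.symm ((hr.out.coprime_iff_not_dvd).2 fun hd =>
        absurd (Nat.le_of_dvd (Nat.pos_of_ne_zero hj0) hd) (not_le.2 (Finset.mem_range.1 hj)))
    obtain ⟨s, t, hst⟩ := Int.isCoprime_iff_gcd_eq_one.2 hco
    have hb1 : b = (b ^ j) ^ s * (b ^ r) ^ t := by
      rw [← zpow_natCast b j, ← zpow_natCast b r, ← zpow_mul, ← zpow_mul, ← zpow_add,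
        mul_comm (j : ℤ), mul_comm (r : ℤ), hst, zpow_one]
    rw [hb1]
    exact mul_mem (zpow_mem h s) (zpow_mem hbr t)
  have h3 : x ^ r = 1 := by
    have h4 := Finset.prod_eq_one h1
    rw [Finset.prod_comm, Finset.prod_eq_single 0 h2
      (fun h => absurd (Finset.mem_range.2 hr.out.pos) h)] at h4
    simpa using h4
  have h5 : orderOf x = 1 := Nat.eq_one_of_dvd_coprimes
    ((hr.out.coprime_iff_not_dvd).2 hrE) (orderOf_dvd_of_pow_eq_one h3) (orderOf_dvd_natCard x)
  have hu1 : u = 1 := congrArg Subtype.val (orderOf_eq_one_iff.1 h5)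
  rw [hu1, idx_eq_one_iff.2 (one_mem _)] at hun
  exact T.hn.ne hun

theorem comm_of_prime_pow {r k : ℕ} [hr : Fact r.Prime] (hnk : n = r ^ k) :
    ∀ a ∈ centralizer ({y} : Set G), ∀ b ∈ centralizer ({y} : Set G), a * b = b * a := by
  classical
  set H := centralizer ({y} : Set G) with hH
  set π := QuotientGroup.mk' (center G) with hπ
  have hrn : r ∣ n := by
    rw [hnk]
    refine dvd_pow_self r fun h => ?_
    rw [h, pow_zero] at hnk
    exact T.hn.ne' hnk
  have hrm : ¬ r ∣ m := fun h => hr.out.ne_one (Nat.eq_one_of_dvd_coprimes T.hcop h hrn)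
  have hrE : ¬ r ∣ Nat.card (topE G m) := fun h => hrm (h.trans T.card_topE_dvd)
  have hcardQ : ∀ {v : G}, idx v = m →
      Nat.card ((centralizer ({v} : Set G)).map π) = r ^ k ∧
      ¬ r ∣ ((centralizer ({v} : Set G)).map π).index := by
    intro v hv
    have hi : ((centralizer ({v} : Set G)).map π).index = m := by
      rw [index_map_eq _ (QuotientGroup.mk'_surjective _)
        ((QuotientGroup.ker_mk' _).trans_le (center_le_cent v))]
      exact hv
    refine ⟨?_, by rw [hi]; exact hrm⟩
    have h1 := ((centralizer ({v} : Set G)).map π).card_mul_index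
    rw [hi, ← index_eq_card (center G), T.index_center, hnk] at h1
    exact Nat.eq_of_mul_eq_mul_right (lt_trans (zero_lt_one.trans T.hn) T.hmn) h1
  -- every element of `H` is conjugate into the centre of `H`
  have hconj : ∀ a ∈ H, a ∉ center G →
      ∃ g : G, ∀ b ∈ H, g * a * g⁻¹ * b = b * (g * a * g⁻¹) ∧ g * a * g⁻¹ ∈ H := by
    intro a ha hac
    have hia := T.idx_eq_of_mem hy ha hac
    let P₁ := (IsPGroup.of_card (hcardQ hy).1).toSylow (hcardQ hy).2
    let P₂ := (IsPGroup.of_card (hcardQ hia).1).toSylow (hcardQ hia).2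
    obtain ⟨q, hq⟩ := MulAction.exists_smul_eq (G ⧸ center G) P₂ P₁
    induction q using QuotientGroup.induction_on with
    | _ g =>
      have hsub : (centralizer ({g * a * g⁻¹} : Set G)).map π = H.map π := by
        have h2 := congrArg (fun P : Sylow r (G ⧸ center G) => (P : Subgroup (G ⧸ center G))) hq
        simp only [P₁, P₂, Sylow.coe_subgroup_smul, IsPGroup.toSylow_coe] at h2
        rw [hH, ← h2, cent_conj, Subgroup.map_map]
        ext q
        rw [Subgroup.mem_map, Subgroup.mem_pointwise_smul_iff_inv_smul_mem, Subgroup.mem_map]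
        constructor
        · rintro ⟨w, hw, rfl⟩
          refine ⟨w, hw, ?_⟩
          simp [hπ, MulAut.smul_def, mul_assoc]
        · rintro ⟨w, hw, hwq⟩
          refine ⟨w, hw, ?_⟩
          have : q = MulAut.conj (g : G ⧸ center G) (π w) := by
            rw [hwq, ← MulAut.smul_def, smul_inv_smul]
          rw [this]
          simp [hπ]
      have hCH : centralizer ({g * a * g⁻¹} : Set G) = H := by
        have h3 := congrArg (fun K => Subgroup.comap π K) hsub
        have hk : ∀ v : G, π.ker ≤ centralizer ({v} : Set G) := fun v =>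
          (QuotientGroup.ker_mk' _).trans_le (center_le_cent v)
        rw [hH] at h3
        simp only [comap_map_eq_self (hk _)] at h3
        exact h3
      exact ⟨g, fun b hb => ⟨(mem_cent.1 (hCH ▸ hb : b ∈ centralizer ({g * a * g⁻¹} : Set G))).symm,
        hCH ▸ mem_cent.2 rfl⟩⟩
  intro a ha b hb
  by_contra hab
  -- the centre of `H`
  set ZH := H ⊓ centralizer (H : Set G) with hZH
  have hZHmem : ∀ x, x ∈ ZH ↔ x ∈ H ∧ ∀ t ∈ H, t * x = x * t := fun x => by
    rw [hZH, mem_inf, mem_centralizer_iff]; rfl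
  set L := ZH ⊔ zpowers a with hL
  have hLH : L ≤ H := sup_le inf_le_left (zpowers_le.2 ha)
  have hLcomm : ∀ x ∈ L, ∀ x' ∈ L, x * x' = x' * x := by
    have key : ∀ x ∈ L, x * a = a * x ∧ ∀ t ∈ ZH, x * t = t * x := by
      intro x hx
      have hle : L ≤ centralizer ({a} : Set G) ⊓ centralizer (ZH : Set G) := by
        refine sup_le (fun t ht => mem_inf.2 ⟨mem_cent.2 ?_, ?_⟩) ?_
        · exact (((hZHmem t).1 ht).2 a ha).symm
        · rw [mem_centralizer_iff]
          exact fun s hs => ((hZHmem t).1 ht).2 s (mem_inf.1 hs).1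
        · rw [zpowers_le]
          refine mem_inf.2 ⟨mem_cent.2 rfl, ?_⟩
          rw [mem_centralizer_iff]
          exact fun s hs => (((hZHmem s).1 hs).2 a ha).symm
      obtain ⟨h1, h2⟩ := mem_inf.1 (hle hx)
      exact ⟨mem_cent.1 h1, fun t ht => (mem_centralizer_iff.1 h2 t ht).symm⟩
    intro x hx x' hx'
    have : L ≤ centralizer ({x} : Set G) :=
      sup_le (fun t ht => mem_cent.2 ((key x hx).2 t ht).symm)
        (zpowers_le.2 (mem_cent.2 (key x hx).1.symm))
    exact (mem_cent.1 (this hx')).symm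
  set Lb := L.map π with hLb
  letI : CommGroup Lb :=
    { (inferInstance : Group Lb) with
      mul_comm := by
        rintro ⟨_, x, hx, rfl⟩ ⟨_, x', hx', rfl⟩
        apply Subtype.ext
        show π x * π x' = π x' * π x
        rw [← map_mul, hLcomm x hx x' hx', map_mul] }
  have hLp : IsPGroup r Lb := IsPGroup.to_le (IsPGroup.of_card (hcardQ hy).1) (map_mono hLH)
  haveI : IsCyclic Lb := by
    refine Cfsg.Agent.Lib.PLemmas.isCyclic_of_card_ker_le (p := r) hLp ?_
    by_cases htriv : ∀ x : (powMonoidHom r : Lb →* Lb).ker, x = 1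
    · haveI : Subsingleton (powMonoidHom r : Lb →* Lb).ker :=
        ⟨fun x x' => (htriv x).trans (htriv x').symm⟩
      rw [Nat.card_eq_one_iff_unique.2 ⟨inferInstance, inferInstance⟩]
      exact hr.out.one_lt.le
    push Not at htriv
    obtain ⟨z, hz⟩ := htriv
    have hzr : (z : Lb) ^ r = 1 := MonoidHom.mem_ker.1 z.2
    have hzo : orderOf (z : Lb) = r := orderOf_eq_prime hzr fun e => hz (Subtype.ext e)
    refine (Nat.card_le_card_of_injective
      (fun x : (powMonoidHom r : Lb →* Lb).ker => (⟨(x : Lb), ?_⟩ : zpowers (z : Lb)))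
      (fun x x' e => Subtype.ext (congrArg (fun w : zpowers (z : Lb) => (w : Lb)) e))).trans
      (le_of_eq (by rw [Nat.card_zpowers, hzo]))
    have hxr : (x : Lb) ^ r = 1 := MonoidHom.mem_ker.1 x.2
    obtain ⟨bz, hbzL, hbz⟩ := (z : Lb).2
    obtain ⟨ax, haxL, hax⟩ := (x : Lb).2
    have hpow : ∀ (w : Lb) (t : G), π t = (w : G ⧸ center G) → w ^ r = 1 → t ^ r ∈ center G := by
      intro w t ht hw
      rw [← QuotientGroup.eq_one_iff]
      show π (t ^ r) = 1
      rw [map_pow, ht, ← SubgroupClass.coe_pow, hw, OneMemClass.coe_one]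
    obtain ⟨i, hi⟩ := T.exists_mul_pow_mem_center hy (hLH haxL) (hLH hbzL)
      (hpow _ _ hax hxr) (hpow _ _ hbz hzr) (hLcomm _ haxL _ hbzL)
      (fun h => hz (Subtype.ext (Subtype.ext (by
        rw [← hbz]; exact (QuotientGroup.eq_one_iff bz).2 h)))) hrE
    have hrel : (x : Lb) * (z : Lb) ^ i = 1 := by
      apply Subtype.ext
      rw [Subgroup.coe_mul, SubgroupClass.coe_pow, ← hax, ← hbz, ← map_pow, ← map_mul]
      exact (QuotientGroup.eq_one_iff _).2 hi
    rw [eq_inv_of_mul_eq_one_left hrel]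
    exact inv_mem (pow_mem (mem_zpowers _) i)
  obtain ⟨g, hg⟩ := IsCyclic.exists_generator (α := Lb)
  obtain ⟨w, hwL, hw⟩ := g.2
  have hgo : orderOf (g : G ⧸ center G) = Nat.card Lb := by
    rw [Subgroup.orderOf_coe]; exact orderOf_eq_card_of_forall_mem_zpowers hg
  have hwH := hLH hwL
  have hZle : ZH.map π ≤ Lb := map_mono le_sup_left
  have hle : Nat.card Lb ≤ Nat.card (ZH.map π) := by
    by_cases hwc : w ∈ center G
    · rw [← hgo, ← hw, show π w = 1 from (QuotientGroup.eq_one_iff w).2 hwc, orderOf_one]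
      exact Nat.card_pos
    obtain ⟨t, ht⟩ := hconj w hwH hwc
    have hmem : π (t * w * t⁻¹) ∈ ZH.map π :=
      mem_map_of_mem _ ((hZHmem _).2 ⟨(ht 1 (one_mem H)).2, fun s hs => ((ht s hs).1).symm⟩)
    have h1 : orderOf (π (t * w * t⁻¹)) ∣ Nat.card (ZH.map π) := by
      simpa [Subgroup.orderOf_mk] using orderOf_dvd_natCard (⟨_, hmem⟩ : ZH.map π)
    have h2 : orderOf (π (t * w * t⁻¹)) = orderOf (π w) := by
      rw [map_mul, map_mul, map_inv]
      exact orderOf_injective (MulAut.conj (π t)).toMonoidHom (MulAut.conj (π t)).injective (π w)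
    rw [← hgo, ← hw, ← h2]
    exact Nat.le_of_dvd Nat.card_pos h1
  have heq : ZH.map π = Lb := eq_of_le_of_card_ge hZle hle
  obtain ⟨c, hc, hca⟩ : π a ∈ ZH.map π := heq ▸ mem_map_of_mem π (mem_sup_right (mem_zpowers a))
  have hac : c⁻¹ * a ∈ center G := by
    rw [← QuotientGroup.eq_one_iff]
    show π (c⁻¹ * a) = 1
    rw [map_mul, map_inv, hca, inv_mul_cancel]
  apply hab
  have haz : a = c * (c⁻¹ * a) := by group
  rw [haz]
  have e1 := ((hZHmem c).1 hc).2 b hb
  have e2 := mem_center_iff.1 hac b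
  rw [mul_assoc, ← e2, ← mul_assoc, ← e1, mul_assoc]

theorem cent_comm :
    ∀ a ∈ centralizer ({y} : Set G), ∀ b ∈ centralizer ({y} : Set G), a * b = b * a := by
  classical
  set H := centralizer ({y} : Set G) with hH
  by_cases hex : ∃ r : ℕ, r.Prime ∧ ∃ a ∈ H, a ∉ center G ∧ centralizer ({a} : Set G) = H ∧
      (∃ j, orderOf a = r ^ j) ∧ ∃ b ∈ H, b ∉ center G ∧ (orderOf b).Coprime r
  · obtain ⟨r, hr, a, ha, hac, haC, ⟨j, hj⟩, b, hb, hbc, hbo⟩ := hex
    haveI := Fact.mk hr
    have h' : ∀ b ∈ H, (orderOf b).Coprime r → H ≤ centralizer ({b} : Set G) := fun b hb hbo =>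
      T.le_cent_of_coprime_order hy hac haC hb (by rw [hj]; exact hbo.symm.pow_left j)
    have hbC := T.cent_eq_of_le hy hbc hb (h' b hb hbo)
    have h'' : ∀ c ∈ H, (∃ i, orderOf c = r ^ i) → H ≤ centralizer ({c} : Set G) := by
      rintro c hc ⟨i, hi⟩
      exact T.le_cent_of_coprime_order hy hbc hbC hc (by rw [hi]; exact hbo.pow_right i)
    intro c hc d hd
    obtain ⟨c1, c2, rfl, -, hc1, hc2, hz1, hz2⟩ := ClassSize.exists_pParts (p := r) c
    have e1 := mem_cent.1 (h'' c1 ((zpowers_le.2 hc) hz1) hc1 hd)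
    have e2 := mem_cent.1 (h' c2 ((zpowers_le.2 hc) hz2) hc2 hd)
    rw [mul_assoc, ← e2, ← mul_assoc, ← e1, mul_assoc]
  · push Not at hex
    -- some primary part of `y` is noncentral
    have hyc : y ∉ center G := fun h => by
      have := idx_eq_one_iff.2 h
      rw [hy] at this
      exact absurd this (ne_of_gt (T.hn.trans T.hmn))
    have hyH : y ∈ H := mem_cent.2 rfl
    obtain ⟨r, hr, hrp⟩ : ∃ r : ℕ, r.Prime ∧
        r ∣ orderOf (QuotientGroup.mk y : G ⧸ center G) := by
      refine Nat.exists_prime_and_dvd fun h => hyc ?_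
      exact (QuotientGroup.eq_one_iff y).1 (orderOf_eq_one_iff.1 h)
    haveI := Fact.mk hr
    obtain ⟨y1, y2, he, -, ⟨j, hj⟩, hy2, hz1, -⟩ := ClassSize.exists_pParts (p := r) y
    have hy1c : y1 ∉ center G := fun h => by
      rw [he, QuotientGroup.mk_mul, (QuotientGroup.eq_one_iff y1).2 h, one_mul] at hrp
      exact (Nat.Prime.coprime_iff_not_dvd hr).1 hy2.symm
        (hrp.trans (orderOf_map_dvd (QuotientGroup.mk' (center G)) y2))
    have hy1H : y1 ∈ H := (zpowers_le.2 hyH) hz1
    have hy1C := T.cent_eq_of_le hy hy1c hy1H (cent_le_cent_of_mem_zpowers hz1)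
    have hrest : ∀ b ∈ H, (orderOf b).Coprime r → b ∈ center G := by
      intro b hb hbo
      by_contra hbc
      exact hex r hr y1 hy1H hy1c hy1C ⟨j, hj⟩ b hb hbc hbo
    have hn0 : n ≠ 0 := (zero_lt_one.trans T.hn).ne'
    refine T.comm_of_prime_pow hy (r := r)
      (Nat.eq_prime_pow_of_unique_prime_dvd hn0 fun {p} hp hpn => ?_)
    by_contra hpr
    haveI := Fact.mk hp
    refine not_dvd_relIndex_center (H := H) (p := p) (fun w hw ⟨i, hi⟩ => hrest w hw ?_)
      (by rw [T.relIndex_center_cent hy]; exact hpn)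
    rw [hi]
    exact ((Nat.coprime_primes hp hr).2 hpr).pow_left i

theorem cent_eq_of_mem {a : G} (ha : a ∈ centralizer ({y} : Set G)) (hac : a ∉ center G) :
    centralizer ({a} : Set G) = centralizer ({y} : Set G) :=
  T.cent_eq_of_le hy hac ha fun b hb => mem_cent.2 (T.cent_comm hy b hb a ha)

/-- The centraliser of `y` is its own normaliser. -/
theorem mem_of_normalizes {g : G}
    (hg : g ∈ normalizer ((centralizer ({y} : Set G)) : Set G)) :
    g ∈ centralizer ({y} : Set G) := by
  classical
  set H := centralizer ({y} : Set G) with hH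
  set NH := normalizer (H : Set G) with hNH
  by_contra hgH
  obtain ⟨u, hu, hun⟩ := T.exists_u
  have hHle : H ≤ NH := le_normalizer
  have hrel : H.relIndex NH ≠ 1 := fun h => hgH (relIndex_eq_one.1 h hg)
  obtain ⟨p, hp, hpd⟩ := Nat.exists_prime_and_dvd hrel
  haveI := Fact.mk hp
  have hpm : p ∣ m := by
    rw [← hy]
    exact hpd.trans ⟨_, (relIndex_mul_index hHle).symm⟩
  have hpE := T.dvd_card_topE_of_dvd hp hpm
  obtain ⟨w, hwN, hwH, k, hk⟩ : ∃ w ∈ NH, w ∉ H ∧ ∃ k, orderOf w = p ^ k := by
    by_contra hno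
    push Not at hno
    obtain ⟨Q⟩ : Nonempty (Sylow p NH) := inferInstance
    refine Q.not_dvd_index' FiniteIndex.index_ne_zero
      (hpd.trans (index_dvd_of_le fun x hx => ?_))
    obtain ⟨k, hk⟩ := IsPGroup.iff_orderOf.1 Q.isPGroup' ⟨x, hx⟩
    refine mem_subgroupOf.2 (by_contra fun hxH => hno _ x.2 hxH k ?_)
    rw [Subgroup.orderOf_coe, ← hk]
    exact orderOf_injective (Q : Subgroup NH).subtype Subtype.val_injective ⟨x, hx⟩
  have hwZ : w ∉ center G := fun h => hwH (center_le_cent y h)
  have hCH : ∀ a ∈ H, w * a = a * w → a ∈ center G := fun a ha hwa => by_contra fun hac =>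
    hwH ((T.cent_eq_of_mem hy ha hac).le (mem_cent.2 hwa))
  -- `w` lies in a conjugate of the centraliser of `u`
  have hpn : ¬ p ∣ n := fun h => hp.ne_one (Nat.eq_one_of_dvd_coprimes T.hcop hpm h)
  obtain ⟨P, hP⟩ := ClassSize.exists_sylow_le_centralizer (p := p) (x := u)
    (show ¬ p ∣ idx u by rw [hun]; exact hpn)
  have hpg : IsPGroup p (zpowers w) := IsPGroup.of_card (n := k) (by rw [Nat.card_zpowers, hk])
  obtain ⟨Q, hQ⟩ := hpg.exists_le_sylow
  obtain ⟨t, ht⟩ := MulAction.exists_smul_eq G Q P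
  have htw : t * w * t⁻¹ ∈ (P : Subgroup G) := by
    rw [← ht, Sylow.coe_subgroup_smul, Subgroup.mem_pointwise_smul_iff_inv_smul_mem]
    simpa [MulAut.smul_def, mul_assoc] using hQ (mem_zpowers w)
  have hwn : idx w ≤ n := T.le_n fun h => T.idx_ne_m hu hun (hP htw) (by rw [idx_conj, h])
  -- hence it centralises `topE`
  have hconjH : ∀ h ∈ H, w⁻¹ * h * w ∈ H := fun h hh => by
    have := (mem_normalizer_iff.1 (inv_mem hwN) h).1 hh
    rwa [inv_inv] at this
  set T' := topE G m ⊓ centralizer ({w} : Set G) with hT'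
  have hle := card_mul_card_le H (topE G m) (center G) T' (T.cent_inf_topE hy) w
    (fun h hh e he hhe => by
      have h' : h * e * w = w * (h * e) := mem_cent.1 hhe
      have e1 : w⁻¹ * h⁻¹ * w * h = (w⁻¹ * e * w) * e⁻¹ := by
        calc w⁻¹ * h⁻¹ * w * h = w⁻¹ * h⁻¹ * (w * (h * e)) * e⁻¹ := by group
          _ = w⁻¹ * h⁻¹ * (h * e * w) * e⁻¹ := by rw [h']
          _ = (w⁻¹ * e * w) * e⁻¹ := by group
      have hmemE : w⁻¹ * h⁻¹ * w * h ∈ topE G m := by
        rw [e1]
        refine mul_mem ?_ (inv_mem he)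
        simpa using Subgroup.Normal.conj_mem (inferInstance : (topE G m).Normal) e he w⁻¹
      have hmemH : w⁻¹ * h⁻¹ * w * h ∈ H := mul_mem (hconjH _ (inv_mem hh)) hh
      have h1 : w⁻¹ * h⁻¹ * w * h = 1 :=
        mem_bot.1 (T.cent_inf_topE hy ▸ mem_inf.2 ⟨hmemH, hmemE⟩)
      have hhw : w * h = h * w := by
        calc w * h = h * w * (w⁻¹ * h⁻¹ * w * h) := by group
          _ = h * w := by rw [h1, mul_one]
      refine ⟨hCH h hh hhw, mem_inf.2 ⟨he, ?_⟩⟩
      have := mul_mem (inv_mem (mem_cent.2 hhw.symm : h ∈ centralizer ({w} : Set G))) hhe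
      rwa [inv_mul_cancel_left] at this)
  rw [T.card_cent hy] at hle
  have hz : 0 < Nat.card (center G) := Nat.card_pos
  have hT'le : Nat.card (topE G m) ≤ Nat.card T' := by
    have h1 := hle.trans (Nat.mul_le_mul_right _ hwn)
    have h2 : n * Nat.card (center G) * Nat.card (topE G m) ≤
        n * Nat.card (center G) * Nat.card T' := by rw [mul_assoc n _ (Nat.card T')]; exact h1
    exact Nat.le_of_mul_le_mul_left h2 (Nat.mul_pos (zero_lt_one.trans T.hn) hz)
  have hTE : T' = topE G m := eq_of_le_of_card_ge inf_le_left hT'le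
  have hwE : w ∈ centralizer (topE G m : Set G) := by
    rw [mem_centralizer_iff]
    intro e he
    rw [← hTE] at he
    exact mem_cent.1 (mem_inf.1 he).2
  -- so it centralises `y`
  apply hwH
  obtain ⟨z, hzc, y', -, hy'o, rfl⟩ := T.exists_split hy
  rw [idx_mul_central hzc] at hy
  show w ∈ centralizer ({z * y'} : Set G)
  rw [cent_mul_central hzc]
  have hy'H : y' ∈ H := by rw [hH, cent_mul_central hzc]; exact mem_cent.2 rfl
  haveI : (centralizer (topE G m : Set G)).Normal := normal_centralizer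
  have hc : y'⁻¹ * (w * y' * w⁻¹) ∈ center G := by
    have hH1 : y'⁻¹ * (w * y' * w⁻¹) ∈ H :=
      mul_mem (inv_mem hy'H) ((mem_normalizer_iff.1 hwN y').1 hy'H)
    have hC1 : y'⁻¹ * (w * y' * w⁻¹) ∈ centralizer (topE G m : Set G) := by
      rw [show y'⁻¹ * (w * y' * w⁻¹) = (y'⁻¹ * w * y') * w⁻¹ by group]
      refine mul_mem ?_ (inv_mem hwE)
      simpa using Subgroup.Normal.conj_mem inferInstance w hwE y'⁻¹
    by_contra hnc
    have hfix : y'⁻¹ * (w * y' * w⁻¹) * u = u * (y'⁻¹ * (w * y' * w⁻¹)) :=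
      (mem_centralizer_iff.1 hC1 u hu).symm
    have hu1 := T.fpf (by rw [idx_mul_central hzc]; exact hy) hH1 hnc hu hfix
    rw [hu1, idx_eq_one_iff.2 (one_mem _)] at hun
    exact T.hn.ne hun
  set c := y'⁻¹ * (w * y' * w⁻¹) with hcdef
  have hyc : Commute y' c := mem_center_iff.1 hc y'
  have hwy : w * y' * w⁻¹ = y' * c := by rw [hcdef]; group
  have h1 : c ^ orderOf y' = 1 := by
    have h := congrArg (· ^ orderOf y') hwy
    simp only [conj_pow, pow_orderOf_eq_one, mul_one, mul_inv_cancel, hyc.mul_pow,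
      one_mul] at h
    exact h.symm
  have h2 : c ^ orderOf w = 1 := by
    have hit : ∀ i : ℕ, w ^ i * y' * (w ^ i)⁻¹ = y' * c ^ i := by
      intro i
      induction i with
      | zero => simp
      | succ i ih =>
        calc w ^ (i + 1) * y' * (w ^ (i + 1))⁻¹ = w * (w ^ i * y' * (w ^ i)⁻¹) * w⁻¹ := by
              rw [pow_succ']; group
          _ = (w * y' * w⁻¹) * (w * c ^ i * w⁻¹) := by rw [ih]; group
          _ = y' * c ^ (i + 1) := by
              rw [hwy, mem_center_iff.1 (pow_mem hc i) w, mul_inv_cancel_right, pow_succ', mul_assoc]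
    have := hit (orderOf w)
    rw [pow_orderOf_eq_one, one_mul, inv_one, mul_one] at this
    exact mul_left_cancel (this.symm.trans (mul_one y').symm)
  have h3 : c = 1 := orderOf_eq_one_iff.1 (Nat.eq_one_of_dvd_coprimes
    (show (orderOf y').Coprime (orderOf w) by
      rw [hk]; exact (Nat.Coprime.coprime_dvd_right hpE hy'o).pow_right k)
    (orderOf_dvd_of_pow_eq_one h1) (orderOf_dvd_of_pow_eq_one h2))
  rw [mem_cent_iff_conj, hwy, h3, mul_one]

theorem isFrobeniusComplement :
    Cfsg.IsFrobeniusComplement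
      ((centralizer ({y} : Set G)).map (QuotientGroup.mk' (center G))) := by
  set H := centralizer ({y} : Set G) with hH
  set π := QuotientGroup.mk' (center G) with hπ
  have hker : π.ker ≤ H := by rw [hπ, QuotientGroup.ker_mk']; exact center_le_cent y
  have hi : (H.map π).index = m := by
    rw [index_map_eq _ (QuotientGroup.mk'_surjective _) hker]; exact hy
  refine ⟨fun h => ?_, fun h => ?_, fun q hq => ?_⟩
  · rw [h, index_bot, ← index_eq_card, T.index_center] at hi
    have := lt_mul_of_one_lt_left (lt_trans (zero_lt_one.trans T.hn) T.hmn) T.hn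
    omega
  · rw [h, index_top] at hi
    have := T.hn.trans T.hmn
    omega
  · induction q using QuotientGroup.induction_on with
    | _ g =>
      rw [eq_bot_iff]
      intro x hx
      obtain ⟨hx1, hx2⟩ := mem_inf.1 hx
      rw [Frobenius.mem_conj_smul_iff] at hx2
      obtain ⟨a, ha, rfl⟩ := hx1
      have hga : g⁻¹ * a * g ∈ H := by
        have := mem_comap.2 (show π (g⁻¹ * a * g) ∈ H.map π by simpa [hπ] using hx2)
        rwa [comap_map_eq_self hker] at this
      rw [mem_bot]
      refine (QuotientGroup.eq_one_iff a).2 (by_contra fun hac => hq ?_)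
      have hgac : g⁻¹ * a * g ∉ center G := fun h => hac (by
        simpa [mul_assoc] using Subgroup.Normal.conj_mem inferInstance _ h g)
      have h1 := T.cent_eq_of_mem hy ha hac
      have h2 := T.cent_eq_of_mem hy hga hgac
      have h3 : g⁻¹ ∈ normalizer (H : Set G) := by
        rw [mem_normalizer_iff]
        intro t
        have e : centralizer ({g⁻¹ * a * g} : Set G) =
            (centralizer ({a} : Set G)).map (MulAut.conj g⁻¹).toMonoidHom := by
          simpa using cent_conj g⁻¹ a
        rw [h1, h2] at e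
        constructor
        · intro ht
          rw [hH, e]
          exact ⟨t, ht, by simp⟩
        · intro ht
          rw [hH, e] at ht
          obtain ⟨s, hs, hst⟩ := ht
          have : s = t := by simpa using hst
          rwa [← this]
      exact mem_map_of_mem π (inv_mem_iff.1 (T.mem_of_normalizes hy h3))

theorem frobeniusKernel_eq {u : G} (hu : u ∈ topE G m) (hun : idx u = n) :
    Cfsg.frobeniusKernel ((centralizer ({y} : Set G)).map (QuotientGroup.mk' (center G))) =
      ((centralizer ({u} : Set G)).map (QuotientGroup.mk' (center G)) : Set (G ⧸ center G)) := by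
  set H := centralizer ({y} : Set G) with hH
  set K := centralizer ({u} : Set G) with hK
  set π := QuotientGroup.mk' (center G) with hπ
  have hker : π.ker ≤ H := by rw [hπ, QuotientGroup.ker_mk']; exact center_le_cent y
  have hkerK : π.ker ≤ K := by rw [hπ, QuotientGroup.ker_mk']; exact center_le_cent u
  have hsub : (K.map π : Set (G ⧸ center G)) ⊆ Cfsg.frobeniusKernel (H.map π) := by
    rintro _ ⟨k, hk, rfl⟩
    rw [Frobenius.mem_frobeniusKernel_iff]
    by_cases hkc : k ∈ center G
    · exact Or.inl ((QuotientGroup.eq_one_iff k).2 hkc)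
    refine Or.inr fun q hq => ?_
    induction q using QuotientGroup.induction_on with
    | _ g =>
      have hgk : g⁻¹ * k * g ∈ H := by
        have := mem_comap.2 (show π (g⁻¹ * k * g) ∈ H.map π by simpa [hπ] using hq)
        rwa [comap_map_eq_self hker] at this
      have hgkc : g⁻¹ * k * g ∉ center G := fun h => hkc (by
        simpa [mul_assoc] using Subgroup.Normal.conj_mem inferInstance _ h g)
      have h1 := T.idx_eq_of_mem hy hgk hgkc
      rw [show g⁻¹ * k * g = g⁻¹ * k * g⁻¹⁻¹ by rw [inv_inv], idx_conj] at h1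
      exact T.idx_ne_m hu hun hk h1
  symm
  refine Set.eq_of_subset_of_ncard_le hsub ?_ (Set.toFinite _)
  rw [← Nat.card_coe_set_eq, ← Nat.card_coe_set_eq,
    Frobenius.card_frobeniusKernel (T.isFrobeniusComplement hy),
    index_map_eq _ (QuotientGroup.mk'_surjective _) hker]
  show idx y ≤ Nat.card (K.map π)
  have h1 := (K.map π).card_mul_index
  rw [index_map_eq _ (QuotientGroup.mk'_surjective _) hkerK, ← index_eq_card, T.index_center,
    show K.index = n from hun, mul_comm n m] at h1
  exact (hy.trans (Nat.eq_of_mul_eq_mul_right (zero_lt_one.trans T.hn) h1).symm).le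

theorem cent_comm_u {u : G} (hu : u ∈ topE G m) (hun : idx u = n) :
    ∀ a ∈ centralizer ({u} : Set G), ∀ b ∈ centralizer ({u} : Set G), a * b = b * a := by
  set H := centralizer ({y} : Set G) with hH
  set K := centralizer ({u} : Set G) with hK
  set π := QuotientGroup.mk' (center G) with hπ
  have hFrob := T.isFrobeniusComplement hy
  have hker := T.frobeniusKernel_eq hy hu hun
  intro a ha b hb
  by_cases hac : a ∈ center G
  · exact (mem_center_iff.1 hac b).symm
  have hle : centralizer ({a} : Set G) ≤ K := by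
    intro g hg
    by_contra hgK
    have hkerK : π.ker ≤ K := by rw [hπ, QuotientGroup.ker_mk']; exact center_le_cent u
    have hnot : π g ∉ Cfsg.frobeniusKernel (H.map π) := by
      rw [hker]
      intro h
      exact hgK ((comap_map_eq_self hkerK).le (mem_comap.2 h))
    rw [Frobenius.mem_frobeniusKernel_iff] at hnot
    push Not at hnot
    obtain ⟨hg1, q, hq⟩ := hnot
    have haK : q⁻¹ * π a * q ∈ Cfsg.frobeniusKernel (H.map π) := by
      have := Frobenius.conj_mem_frobeniusKernel (H := H.map π) q⁻¹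
        (show π a ∈ Cfsg.frobeniusKernel (H.map π) by rw [hker]; exact mem_map_of_mem π ha)
      simpa using this
    have hne : q⁻¹ * π g * q ≠ 1 := fun h => hg1 (by
      calc π g = q * (q⁻¹ * π g * q) * q⁻¹ := by group
        _ = 1 := by rw [h]; simp)
    have haH : q⁻¹ * π a * q ∈ H.map π := Frobenius.centralizer_le hFrob hq hne (by
      rw [mem_cent]
      calc q⁻¹ * π a * q * (q⁻¹ * π g * q) = q⁻¹ * π (a * g) * q := by rw [map_mul]; group
        _ = q⁻¹ * π (g * a) * q := by rw [mem_cent.1 hg]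
        _ = q⁻¹ * π g * q * (q⁻¹ * π a * q) := by rw [map_mul]; group)
    have h1 := Frobenius.eq_one_of_mem_frobeniusKernel haK haH
    apply hac
    apply (QuotientGroup.eq_one_iff a).1
    show π a = 1
    calc π a = q * (q⁻¹ * π a * q) * q⁻¹ := by group
      _ = 1 := by rw [h1]; simp
  have h1 : idx a = n := T.eq_n_of_dvd (hun ▸ index_dvd_of_le hle)
  have h2 : centralizer ({a} : Set G) = K := eq_of_le_of_index_le hle (h1.trans hun.symm).le
  exact (mem_cent.1 (h2.symm ▸ hb : b ∈ centralizer ({a} : Set G))).symm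

end Top

end Cfsg.Agent.Lib.ClassSizeTop
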