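import Cfsg.Agent.Lib.ClassSizeTop.Top
import Cfsg.Agent.Lib.Frobenius.Basic
import Cfsg.Agent.Lib.PLemmas.NormalRankTwo

/-!
Groups whose two largest class sizes are coprime: the Frobenius structure.
-/

set_option autoImplicit false

namespace Cfsg.Agent.Lib.ClassSizeTop

open Subgroup

variable {G : Type*} [Group G] [Finite G]

/-- Counting a class along a product of two subgroups. -/
theorem card_mul_card_le (H E S T : Subgroup G) [hE : E.Normal] (hHE : H ⊓ E = ⊥) (w : G)
    (h : ∀ a ∈ H, ∀ b ∈ E, a * b ∈ centralizer ({w} : Set G) → a ∈ S ∧ b ∈ T) :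
    Nat.card H * Nat.card E ≤ idx w * (Nat.card S * Nat.card T) := by
  classical
  haveI : Fintype G := Fintype.ofFinite G
  set C := centralizer ({w} : Set G) with hC
  let F : H × E → G ⧸ C := fun p => QuotientGroup.mk ((p.1 : G) * p.2)
  have hfib : ∀ q ∈ (Finset.univ : Finset (G ⧸ C)),
      (Finset.univ.filter fun p => F p = q).card ≤ Nat.card S * Nat.card T := by
    intro q _
    rcases (Finset.univ.filter fun p => F p = q).eq_empty_or_nonempty with h0 | ⟨p₀, hp₀⟩
    · rw [h0]; simp
    rw [Finset.mem_filter] at hp₀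
    have key : ∀ p : H × E, F p = q →
        (p₀.1 : G)⁻¹ * p.1 ∈ S ∧
          ((p₀.1 : G)⁻¹ * p.1)⁻¹ * (p₀.2 : G)⁻¹ * ((p₀.1 : G)⁻¹ * p.1) * p.2 ∈ T := by
      intro p hp
      have h1 := QuotientGroup.eq.1 (hp₀.2.trans hp.symm)
      refine h _ (mul_mem (inv_mem p₀.1.2) p.1.2) _
        (mul_mem ?_ p.2.2) ?_
      · have := hE.conj_mem _ (inv_mem p₀.2.2) ((p₀.1 : G)⁻¹ * p.1)⁻¹
        simpa [mul_assoc] using this
      · show _ ∈ C
        convert h1 using 1
        group
    have hinj : Function.Injective (fun p : {p : H × E // F p = q} =>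
        ((⟨_, (key p.1 p.2).1⟩, ⟨_, (key p.1 p.2).2⟩) : S × T)) := by
      rintro ⟨⟨a, b⟩, hab⟩ ⟨⟨a', b'⟩, hab'⟩ e
      simp only [Prod.mk.injEq, Subtype.mk.injEq] at e
      obtain ⟨e1, e2⟩ := e
      have e1' : (a : G) = a' := mul_left_cancel e1
      rw [e1] at e2
      exact Subtype.ext (Prod.ext (Subtype.ext e1') (Subtype.ext (mul_left_cancel e2)))
    have := Nat.card_le_card_of_injective _ hinj
    rwa [Nat.card_prod, Nat.card_eq_fintype_card, Fintype.card_subtype] at this
  have := Finset.card_le_mul_card_image (s := (Finset.univ : Finset (H × E))) (f := F) _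
    (fun q _ => hfib q (Finset.mem_univ q))
  rw [Finset.card_univ, ← Nat.card_eq_fintype_card, Nat.card_prod] at this
  refine this.trans ?_
  rw [mul_comm]
  refine Nat.mul_le_mul_right _ ?_
  unfold idx
  rw [index_eq_card, Nat.card_eq_fintype_card]
  exact Finset.card_le_univ _

namespace Top

variable {m n : ℕ} (T : Top G m n) {y : G} (hy : idx y = m)
include T hy

omit [Finite G] T hy in
theorem center_le_cent (x : G) : center G ≤ centralizer ({x} : Set G) :=
  fun _ hz => mem_cent.2 (mem_center_iff.1 hz x).symm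

theorem cent_inf_topE : centralizer ({y} : Set G) ⊓ topE G m = ⊥ := by
  obtain ⟨u, hu, hun⟩ := T.exists_u
  rw [eq_bot_iff, ← T.topE_inf_center, ← T.inf_cent_eq_center hu hun hy]
  intro c hc
  obtain ⟨h1, h2⟩ := mem_inf.1 hc
  exact mem_inf.2 ⟨h2, mem_inf.2 ⟨T.topE_le_cent hu hun h2, h1⟩⟩

theorem card_cent : Nat.card (centralizer ({y} : Set G)) = n * Nat.card (center G) := by
  have h2 := (center G).card_mul_index
  have h3 := (centralizer ({y} : Set G)).card_mul_index
  rw [T.index_center] at h2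
  rw [show (centralizer ({y} : Set G)).index = m from hy] at h3
  exact Nat.eq_of_mul_eq_mul_right (lt_trans (zero_lt_one.trans T.hn) T.hmn)
    (h3.trans (h2.symm.trans (by ring)))

theorem pow_n_mem_center {a : G} (ha : a ∈ centralizer ({y} : Set G)) : a ^ n ∈ center G := by
  have h := pow_index_mem ((center G).subgroupOf (centralizer ({y} : Set G))) ⟨a, ha⟩
  rw [show ((center G).subgroupOf (centralizer ({y} : Set G))).index = n from
    T.relIndex_center_cent hy] at h
  exact mem_subgroupOf.1 h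

theorem exists_cent_split {a : G} (ha : a ∈ centralizer ({y} : Set G)) :
    ∃ z ∈ center G, ∃ a' ∈ centralizer ({y} : Set G),
      (orderOf a').Coprime (Nat.card (topE G m)) ∧ a = z * a' := by
  obtain ⟨z, hz, a', ha', ho, he⟩ :=
    exists_coprime_part Nat.card_pos (T.pow_n_mem_center hy ha) T.coprime_n_card_topE
  exact ⟨z, hz, a', (zpowers_le.2 ha) ha', ho, he⟩

theorem mem_of_mul_mem_cent {a h e : G} (ha : a ∈ centralizer ({y} : Set G))
    (hh : h ∈ centralizer ({y} : Set G)) (he : e ∈ topE G m)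
    (hc : h * e ∈ centralizer ({a} : Set G)) :
    h ∈ centralizer ({a} : Set G) ∧ e ∈ centralizer ({a} : Set G) := by
  set H := centralizer ({y} : Set G)
  have h1 : a⁻¹ * h⁻¹ * a * h ∈ topE G m := by
    have h' : h * e * a = a * (h * e) := mem_cent.1 hc
    have e1 : a⁻¹ * h⁻¹ * a * h = (a⁻¹ * e * a) * e⁻¹ := by
      calc a⁻¹ * h⁻¹ * a * h = a⁻¹ * h⁻¹ * (a * (h * e)) * e⁻¹ := by group
        _ = a⁻¹ * h⁻¹ * (h * e * a) * e⁻¹ := by rw [h']
        _ = (a⁻¹ * e * a) * e⁻¹ := by group
    rw [e1]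
    refine mul_mem ?_ (inv_mem he)
    have := Subgroup.Normal.conj_mem (inferInstance : (topE G m).Normal) e he a⁻¹
    simpa using this
  have h2 : a⁻¹ * h⁻¹ * a * h ∈ H :=
    mul_mem (mul_mem (mul_mem (inv_mem ha) (inv_mem hh)) ha) hh
  have h3 : a⁻¹ * h⁻¹ * a * h = 1 :=
    mem_bot.1 (T.cent_inf_topE hy ▸ mem_inf.2 ⟨h2, h1⟩)
  have hha : h * a = a * h := by
    calc h * a = h * a * (a⁻¹ * h⁻¹ * a * h) := by rw [h3, mul_one]
      _ = a * h := by group
  refine ⟨mem_cent.2 hha, ?_⟩
  have hmem : h ∈ centralizer ({a} : Set G) := mem_cent.2 hha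
  have := mul_mem (inv_mem hmem) hc
  rwa [inv_mul_cancel_left] at this

theorem conj_u_inj {u : G} (hu : u ∈ topE G m) (hun : idx u = n) {h h' : G}
    (hh : h ∈ centralizer ({y} : Set G)) (hh' : h' ∈ centralizer ({y} : Set G))
    (e : h * u * h⁻¹ = h' * u * h'⁻¹) : h⁻¹ * h' ∈ center G := by
  rw [← T.inf_cent_eq_center hu hun hy]
  refine mem_inf.2 ⟨mem_cent_iff_conj.2 ?_, mul_mem (inv_mem hh) hh'⟩
  calc h⁻¹ * h' * u * (h⁻¹ * h')⁻¹ = h⁻¹ * (h' * u * h'⁻¹) * h := by group
    _ = u := by rw [← e]; group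

theorem n_lt_card_topE : n < Nat.card (topE G m) := by
  obtain ⟨u, hu, hun⟩ := T.exists_u
  set H := centralizer ({y} : Set G)
  set Q := H ⧸ (center G).subgroupOf H
  have hQ : Nat.card Q = n := by
    rw [← index_eq_card]; exact T.relIndex_center_cent hy
  let F : Q → topE G m := fun q => Quotient.liftOn' q
    (fun h : H => (⟨(h : G) * u * (h : G)⁻¹,
      Subgroup.Normal.conj_mem inferInstance u hu _⟩ : topE G m)) (by
    intro a b hab
    rw [QuotientGroup.leftRel_apply, mem_subgroupOf] at hab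
    apply Subtype.ext
    have hz : ((a : G)⁻¹ * b) * u * ((a : G)⁻¹ * b)⁻¹ = u :=
      mem_cent_iff_conj.1 (center_le_cent u hab)
    calc (a : G) * u * (a : G)⁻¹ = a * (((a : G)⁻¹ * b) * u * ((a : G)⁻¹ * b)⁻¹) * (a : G)⁻¹ := by
          rw [hz]
      _ = b * u * (b : G)⁻¹ := by group)
  have hinj : Function.Injective F := by
    intro p q
    induction p using QuotientGroup.induction_on with
    | _ a =>
      induction q using QuotientGroup.induction_on with
      | _ b =>
        intro e
        rw [QuotientGroup.eq, mem_subgroupOf]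
        exact T.conj_u_inj hy hu hun a.2 b.2 (congrArg Subtype.val e)
  rw [← hQ]
  haveI := Fintype.ofFinite Q
  haveI := Fintype.ofFinite (topE G m)
  rw [Nat.card_eq_fintype_card, Nat.card_eq_fintype_card]
  refine Fintype.card_lt_of_injective_of_notMem F hinj (b := 1) ?_
  rintro ⟨q, hq⟩
  induction q using QuotientGroup.induction_on with
  | _ a =>
    have hu1 : u = 1 := conj_eq_one_iff.1 (congrArg Subtype.val hq)
    rw [hu1, idx_eq_one_iff.2 (one_mem _)] at hun
    exact T.hn.ne hun

/-- A noncentral element of the centraliser of `y` fixes no nontrivial element of `topE`. -/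
theorem fpf {a c : G} (ha : a ∈ centralizer ({y} : Set G)) (hac : a ∉ center G)
    (hc : c ∈ topE G m) (hcom : a * c = c * a) : c = 1 := by
  classical
  obtain ⟨z, hz, a', ha', ho, rfl⟩ := T.exists_cent_split hy ha
  have hac' : a' ∉ center G := fun h => hac (mul_mem hz h)
  have hcom' : a' * c = c * a' := by
    have : z * a' * c = z * (c * a') := by
      rw [hcom, ← mul_assoc, mem_center_iff.1 hz c, mul_assoc]
    exact mul_left_cancel (by rw [← mul_assoc]; exact this)
  clear hac hcom ha hz z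
  rename' a' => a, ha' => ha, hac' => hac, hcom' => hcom
  by_contra hc1
  set N := topE G m with hN
  set H := centralizer ({y} : Set G) with hH
  letI : CommGroup N :=
    { (inferInstance : Group N) with mul_comm := fun x x' => Subtype.ext (T.topE_comm x x.2 x' x'.2) }
  obtain ⟨u, hu, hun⟩ := T.exists_u
  set o := orderOf a with ho'
  obtain ⟨k, hk⟩ : ∃ k, ∀ x : N, (x ^ o) ^ k = x := by
    obtain ⟨k, hk⟩ := Nat.exists_mul_mod_eq_of_coprime 1 ho Nat.card_pos.ne'
    refine ⟨k, fun x => ?_⟩
    rw [← pow_mul, ← pow_mod_natCard, hk.2, pow_mod_natCard, pow_one]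
  set φ := MulAut.conjNormal (H := N) with hφ
  let π : N → N := fun x => (∏ i ∈ Finset.range o, φ (a ^ i) x) ^ k
  have hfix : ∀ x, φ a (π x) = π x := by
    intro x
    simp only [π, map_pow, map_prod]
    congr 1
    have e : ∀ i, φ a (φ (a ^ i) x) = φ (a ^ (i + 1)) x := fun i => by
      rw [← MulAut.mul_apply, ← map_mul, pow_succ']
    simp only [e, ← map_pow]
    apply mul_right_cancel (b := φ (a ^ 0) x)
    rw [← Finset.prod_range_succ' (fun i => φ (a ^ i) x) o, Finset.prod_range_succ, ho',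
      pow_orderOf_eq_one, pow_zero]
  have hid : ∀ x, φ a x = x → π x = x := by
    intro x hx
    have e : ∀ i : ℕ, φ (a ^ i) x = x := by
      intro i
      induction i with
      | zero => simp
      | succ i ih => rw [pow_succ, map_mul, MulAut.mul_apply, hx, ih]
    simp only [π, e, Finset.prod_const, Finset.card_range]
    exact hk x
  have hmul : ∀ x x', π (x * x') = π x * π x' := by
    intro x x'
    simp only [π, map_mul, Finset.prod_mul_distrib, mul_pow]
  have hequiv : ∀ h : G, h * a = a * h → ∀ x, π (φ h x) = φ h (π x) := by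
    intro h hh x
    simp only [π, map_pow, map_prod]
    congr 1
    refine Finset.prod_congr rfl fun i _ => ?_
    rw [← map_pow, ← MulAut.mul_apply, ← MulAut.mul_apply, ← map_mul, ← map_mul,
      (Commute.pow_right (show Commute h a from hh) i).eq]
  set B : Subgroup N := (centralizer ({a} : Set G)).subgroupOf N with hB
  have hBfix : ∀ x : N, x ∈ B ↔ φ a x = x := by
    intro x
    rw [hB, mem_subgroupOf, mem_cent, Subtype.ext_iff, MulAut.conjNormal_apply,
      mul_inv_eq_iff_eq_mul, eq_comm]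
  set c₀ : N := if π ⟨u, hu⟩ = 1 then ⟨c, hc⟩ else π ⟨u, hu⟩ with hc₀
  have hc₀fix : φ a c₀ = c₀ := by
    rw [hc₀]
    split_ifs
    · exact Subtype.ext (by rw [MulAut.conjNormal_apply]; show a * c * a⁻¹ = c; rw [hcom]; group)
    · exact hfix _
  have hc₀ne : c₀ ≠ 1 := by
    rw [hc₀]
    split_ifs with h
    · exact fun e => hc1 (congrArg Subtype.val e)
    · exact h
  set C := H ⊓ centralizer ({a} : Set G) with hCdef
  set D := (centralizer ({(c₀ : G)} : Set G)).subgroupOf C with hD
  have hDπ : ∀ d : C, d ∈ D → φ (d : G) (π ⟨u, hu⟩) = π ⟨u, hu⟩ := by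
    intro d hd
    by_cases h : π ⟨u, hu⟩ = 1
    · rw [h, map_one]
    · have : c₀ = π ⟨u, hu⟩ := if_neg h
      rw [← this]
      refine Subtype.ext ?_
      rw [MulAut.conjNormal_apply]
      exact mem_cent_iff_conj.1 (mem_subgroupOf.1 hd)
  -- the orbit of `u` under `C` in terms of its two projections
  set Z' := (center G).subgroupOf C with hZ'
  have hZC : center G ≤ C := le_inf (center_le_cent y) (center_le_cent a)
  have hne1 : ∀ h : C, (QuotientGroup.mk (φ (h : G) ⟨u, hu⟩) : N ⧸ B) ≠ 1 := by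
    intro h he
    rw [QuotientGroup.eq_one_iff, hB, mem_subgroupOf, mem_cent, MulAut.conjNormal_apply] at he
    obtain ⟨hhH, hha⟩ := mem_inf.1 h.2
    have hau : a ∈ centralizer ({u} : Set G) := by
      rw [mem_cent]
      have hha' : (h : G) * a = a * h := mem_cent.1 hha
      have hha'' : (h : G)⁻¹ * a * h = a := by
        calc (h : G)⁻¹ * a * h = (h : G)⁻¹ * (h * a) := by rw [hha']; group
          _ = a := by group
      calc a * u = ((h : G)⁻¹ * a * h) * u := by rw [hha'']
        _ = (h : G)⁻¹ * (a * ((h : G) * u * (h : G)⁻¹)) * h := by group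
        _ = (h : G)⁻¹ * (((h : G) * u * (h : G)⁻¹) * a) * h := by rw [he]
        _ = u * ((h : G)⁻¹ * a * h) := by group
        _ = u * a := by rw [hha'']
    exact hac (T.inf_cent_eq_center hu hun hy ▸ mem_inf.2 ⟨hau, ha⟩)
  let Ψ : C ⧸ Z' → (C ⧸ D) × {q : N ⧸ B // q ≠ 1} := fun q => Quotient.liftOn' q
    (fun h : C => ((QuotientGroup.mk h : C ⧸ D),
      (⟨QuotientGroup.mk (φ (h : G) ⟨u, hu⟩), hne1 h⟩ : {q : N ⧸ B // q ≠ 1}))) (by
      intro h h' hh
      rw [QuotientGroup.leftRel_apply, hZ', mem_subgroupOf] at hh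
      refine Prod.ext (QuotientGroup.eq.2 (mem_subgroupOf.2 (center_le_cent _ hh))) (Subtype.ext ?_)
      show (QuotientGroup.mk (φ (h : G) ⟨u, hu⟩) : N ⧸ B) =
        QuotientGroup.mk (φ (h' : G) ⟨u, hu⟩)
      congr 1
      refine Subtype.ext ?_
      rw [MulAut.conjNormal_apply, MulAut.conjNormal_apply]
      have hz : ((h : G)⁻¹ * h') * u * ((h : G)⁻¹ * h')⁻¹ = u :=
        mem_cent_iff_conj.1 (center_le_cent u hh)
      calc (h : G) * u * (h : G)⁻¹ = h * (((h : G)⁻¹ * h') * u * ((h : G)⁻¹ * h')⁻¹) * (h : G)⁻¹ := by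
            rw [hz]
        _ = h' * u * (h' : G)⁻¹ := by group)
  have hΨ : Function.Injective Ψ := by
    intro p q
    induction p using QuotientGroup.induction_on with
    | _ h =>
      induction q using QuotientGroup.induction_on with
      | _ h' =>
        intro e
        have e1 : (QuotientGroup.mk h : C ⧸ D) = QuotientGroup.mk h' := congrArg Prod.fst e
        have e2 : (QuotientGroup.mk (φ (h : G) ⟨u, hu⟩) : N ⧸ B) =
            QuotientGroup.mk (φ (h' : G) ⟨u, hu⟩) := congrArg Subtype.val (congrArg Prod.snd e)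
        set x := φ (h : G) ⟨u, hu⟩ with hx
        set x' := φ (h' : G) ⟨u, hu⟩ with hx'
        have hb : π (x⁻¹ * x') = x⁻¹ * x' := hid _ ((hBfix _).1 (QuotientGroup.eq.1 e2))
        have hπ : π x = π x' := by
          rw [hx, hx', hequiv _ (mem_cent.1 (mem_inf.1 h.2).2), hequiv _ (mem_cent.1 (mem_inf.1 h'.2).2)]
          have := hDπ _ (QuotientGroup.eq.1 e1)
          rw [Subgroup.coe_mul, Subgroup.coe_inv, map_mul, map_inv, MulAut.mul_apply] at this
          calc φ (h : G) (π ⟨u, hu⟩) = φ (h : G) ((φ (h : G))⁻¹ (φ (h' : G) (π ⟨u, hu⟩))) := by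
                rw [this]
            _ = φ (h' : G) (π ⟨u, hu⟩) := by rw [← MulAut.mul_apply, mul_inv_cancel, MulAut.one_apply]
        have h3 : x = x' := by
          have h4 : π x' = π x * π (x⁻¹ * x') := by rw [← hmul, mul_inv_cancel_left]
          rw [← hπ, hb] at h4
          exact (inv_mul_eq_one.1 (mul_left_cancel ((mul_one (π x)).trans h4)).symm)
        rw [QuotientGroup.eq, hZ', mem_subgroupOf]
        refine T.conj_u_inj hy hu hun (mem_inf.1 h.2).1 (mem_inf.1 h'.2).1 ?_
        have h5 := congrArg Subtype.val h3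
        rwa [hx, hx', MulAut.conjNormal_apply, MulAut.conjNormal_apply] at h5
  have hcount := Nat.card_le_card_of_injective Ψ hΨ
  rw [Nat.card_prod] at hcount
  set A := Nat.card (N ⧸ B) with hA
  have hA1 : Nat.card {q : N ⧸ B // q ≠ 1} + 1 = A := by
    haveI := Fintype.ofFinite (N ⧸ B)
    rw [hA, Nat.card_eq_fintype_card, Nat.card_eq_fintype_card, Fintype.card_subtype,
      Finset.filter_ne', Finset.card_erase_of_mem (Finset.mem_univ _), Finset.card_univ]
    have : 0 < Fintype.card (N ⧸ B) := Fintype.card_pos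
    omega
  rw [← index_eq_card, ← index_eq_card] at hcount
  -- the count along `H N`
  set S := C ⊓ centralizer ({(c₀ : G)} : Set G) with hS
  set T' := N ⊓ centralizer ({a} : Set G) with hT'
  have hcomm0 : Commute a (c₀ : G) := by
    have := congrArg Subtype.val hc₀fix
    rw [MulAut.conjNormal_apply, mul_inv_eq_iff_eq_mul] at this
    exact this
  have hoc : orderOf (c₀ : G) ∣ Nat.card N := by
    rw [Subgroup.orderOf_coe]; exact orderOf_dvd_natCard c₀
  have hcop0 := Nat.Coprime.coprime_dvd_right hoc ho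
  have hcent := cent_mul_of_coprime hcomm0 hcop0
  have hle := card_mul_card_le H N S T' (T.cent_inf_topE hy) (a * c₀) (fun h hh e he hhe => by
    rw [hcent, mem_inf] at hhe
    obtain ⟨h1, h2⟩ := T.mem_of_mul_mem_cent hy ha hh he hhe.1
    refine ⟨mem_inf.2 ⟨mem_inf.2 ⟨hh, h1⟩, ?_⟩, mem_inf.2 ⟨he, h2⟩⟩
    have he' : e ∈ centralizer ({(c₀ : G)} : Set G) := mem_cent.2 (T.topE_comm e he _ c₀.2)
    have := mul_mem hhe.2 (inv_mem he')
    rwa [mul_inv_cancel_right] at this)
  have hT'B : Nat.card T' * A = Nat.card N := by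
    rw [hA, ← index_eq_card, ← B.card_mul_index]
    congr 1
    rw [← card_map_of_injective (K := B) N.subtype_injective, hB, subgroupOf_map_subtype, hT',
      inf_comm]
  have hSD : Nat.card S * D.index = Nat.card C := by
    rw [← D.card_mul_index]
    congr 1
    rw [← card_map_of_injective (K := D) C.subtype_injective, hD, subgroupOf_map_subtype, hS,
      inf_comm]
  have hCZ : Nat.card (center G) * Z'.index = Nat.card C := by
    rw [← Z'.card_mul_index]
    congr 1
    exact (Nat.card_congr (subgroupOfEquivOfLe hZC).toEquiv).symm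
  have hHcard : Nat.card H = n * Nat.card (center G) := T.card_cent hy
  have hidx : n < idx (a * c₀) := by
    by_contra hlt
    push Not at hlt
    set zc := Nat.card (center G)
    set sc := Nat.card S
    set tc := Nat.card T'
    set q := Nat.card {q : N ⧸ B // q ≠ 1}
    have hzc : 0 < zc := Nat.card_pos
    have htc : 0 < tc := Nat.card_pos
    have hn0 : 0 < n := zero_lt_one.trans T.hn
    have hD0 : 0 < D.index := Nat.pos_of_ne_zero FiniteIndex.index_ne_zero
    rw [hHcard, ← hT'B] at hle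
    have s1 : zc * A ≤ sc := by
      have := hle.trans (Nat.mul_le_mul_right _ hlt)
      have : (zc * A) * (n * tc) ≤ sc * (n * tc) := by linarith
      exact Nat.le_of_mul_le_mul_right this (Nat.mul_pos hn0 htc)
    have s2 : sc * D.index ≤ zc * q * D.index := by
      rw [hSD, ← hCZ]
      calc zc * Z'.index ≤ zc * (D.index * q) := Nat.mul_le_mul_left _ hcount
        _ = zc * q * D.index := by ring
    have s3 : sc ≤ zc * q := Nat.le_of_mul_le_mul_right s2 hD0
    have : zc * A = zc * q + zc := by rw [← hA1]; ring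
    omega
  have hm : idx (a * c₀) = m := by
    by_contra hne
    exact absurd (T.le_n hne) (not_le.2 hidx)
  obtain ⟨z, hz, w, hw, hwo, hwe⟩ := T.exists_split hm
  have hpow : (a * (c₀ : G)) ^ (orderOf w * orderOf a) ∈ center G := by
    rw [hwe, (show Commute z w from (mem_center_iff.1 hz w).symm).mul_pow, pow_mul w,
      pow_orderOf_eq_one, one_pow, mul_one]
    exact pow_mem hz _
  rw [hcomm0.mul_pow, mul_comm, pow_mul a, pow_orderOf_eq_one, one_pow, one_mul] at hpow
  have h1 : (c₀ : G) ^ (orderOf a * orderOf w) = 1 :=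
    mem_bot.1 (T.topE_inf_center ▸ mem_inf.2 ⟨pow_mem c₀.2 _, hpow⟩)
  have h2 : orderOf (c₀ : G) = 1 :=
    Nat.eq_one_of_dvd_coprimes ((Nat.Coprime.mul_left ho hwo).symm) hoc
      (orderOf_dvd_of_pow_eq_one h1)
  exact hc₀ne (Subtype.ext (orderOf_eq_one_iff.1 h2))

theorem idx_eq_of_mem {a : G} (ha : a ∈ centralizer ({y} : Set G)) (hac : a ∉ center G) :
    idx a = m := by
  set H := centralizer ({y} : Set G) with hH
  set N := topE G m with hN
  have hle := card_mul_card_le H N (H ⊓ centralizer ({a} : Set G)) ⊥ (T.cent_inf_topE hy) a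
    (fun h hh e he hhe => by
      obtain ⟨h1, h2⟩ := T.mem_of_mul_mem_cent hy ha hh he hhe
      exact ⟨mem_inf.2 ⟨hh, h1⟩, mem_bot.2 (T.fpf hy ha hac he (mem_cent.1 h2).symm)⟩)
  rw [card_bot, mul_one] at hle
  by_contra hne
  have h1 := T.le_n hne
  have h2 : Nat.card (H ⊓ centralizer ({a} : Set G) : Subgroup G) ≤ Nat.card H :=
    Nat.le_of_dvd Nat.card_pos (card_dvd_of_le inf_le_left)
  have h3 := T.n_lt_card_topE hy
  have h4 := hle.trans (Nat.mul_le_mul h1 h2)
  have h5 : 0 < Nat.card H := Nat.card_pos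
  nlinarith

theorem cent_eq_of_le {a : G} (hac : a ∉ center G) (ha : a ∈ centralizer ({y} : Set G))
    (hle : centralizer ({y} : Set G) ≤ centralizer ({a} : Set G)) :
    centralizer ({a} : Set G) = centralizer ({y} : Set G) :=
  (eq_of_le_of_index_le hle (le_of_eq (hy.trans (T.idx_eq_of_mem hy ha hac).symm))).symm

end Top

end Cfsg.Agent.Lib.ClassSizeTop
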