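import Cfsg.Agent.Lib.ClassSizeTop.Basic

/-!
Groups whose two largest class sizes are coprime: the local analysis.
-/

set_option autoImplicit false

namespace Cfsg.Agent.Lib.ClassSizeTop

open Subgroup

variable {G : Type*} [Group G]

/-- The subgroup generated by the commutators of the elements of `V` with `G`. -/
def gen (V : Set G) : Subgroup G := closure {c | ∃ v ∈ V, ∃ g : G, c = g * v * g⁻¹ * v⁻¹}

theorem mem_gen {V : Set G} {v : G} (hv : v ∈ V) (g : G) : g * v * g⁻¹ * v⁻¹ ∈ gen V :=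
  subset_closure ⟨v, hv, g, rfl⟩

instance gen_normal (V : Set G) : (gen V).Normal := by
  refine ⟨fun c hc k => ?_⟩
  refine closure_induction (p := fun c _ => k * c * k⁻¹ ∈ gen V) ?_ ?_ ?_ ?_ hc
  · rintro _ ⟨v, hv, g, rfl⟩
    rw [show k * (g * v * g⁻¹ * v⁻¹) * k⁻¹ =
      (k * g * v * (k * g)⁻¹ * v⁻¹) * (k * v * k⁻¹ * v⁻¹)⁻¹ by group]
    exact mul_mem (mem_gen hv _) (inv_mem (mem_gen hv _))
  · simp
  · intro a b _ _ ha hb
    rw [show k * (a * b) * k⁻¹ = k * a * k⁻¹ * (k * b * k⁻¹) by group]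
    exact mul_mem ha hb
  · intro a _ ha
    rw [show k * a⁻¹ * k⁻¹ = (k * a * k⁻¹)⁻¹ by group]
    exact inv_mem ha

variable [Finite G]

theorem gen_comm {V : Set G} (h : ∀ v ∈ V, (Nat.card (gen V)).Coprime (idx v)) :
    ∀ x ∈ gen V, ∀ y ∈ gen V, x * y = y * x := by
  intro x hx y hy
  have key : gen V ≤ centralizer ({x} : Set G) := by
    rw [gen, closure_le]
    rintro _ ⟨v, hv, g, rfl⟩
    have h1 : v ∈ centralizer ({x} : Set G) :=
      mem_cent.2 (mem_cent.1 (le_cent_of_coprime (gen V) (h v hv) hx)).symm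
    have h2 : g * v * g⁻¹ ∈ centralizer ({x} : Set G) := by
      have := le_cent_of_coprime (gen V) (a := g * v * g⁻¹) (by rw [idx_conj]; exact h v hv) hx
      exact mem_cent.2 (mem_cent.1 this).symm
    exact mul_mem h2 (inv_mem h1)
  exact (mem_cent.1 (key hy)).symm

/-- The two largest class sizes `n < m` are coprime. -/
structure Top (G : Type*) [Group G] (m n : ℕ) : Prop where
  hn : 1 < n
  hmn : n < m
  hcop : m.Coprime n
  htop : ∀ z : G, idx z ≤ m
  hsecond : ∀ z : G, idx z < m → idx z ≤ n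
  hx : ∃ x : G, idx x = n
  hy : ∃ y : G, idx y = m

/-- The subgroup generated by the commutators of elements with class size prime to `m`. -/
abbrev topE (G : Type*) [Group G] (m : ℕ) : Subgroup G := gen {v : G | (idx v).Coprime m}

variable {m n : ℕ}

namespace Top

variable (T : Top G m n)
include T

theorem le_n {z : G} (h : idx z ≠ m) : idx z ≤ n :=
  T.hsecond z (lt_of_le_of_ne (T.htop z) h)

theorem eq_n_of_dvd {z : G} (h : n ∣ idx z) : idx z = n := by
  refine le_antisymm (T.le_n fun e => ?_) (Nat.le_of_dvd (idx_pos z) h)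
  rw [e] at h
  have := Nat.eq_one_of_dvd_coprimes T.hcop h dvd_rfl
  exact absurd this T.hn.ne'

omit [Finite G] in
theorem eq_of_not_coprime : ¬ (1 < n ∧ n ∣ m) := fun ⟨h1, h2⟩ =>
  h1.ne' (Nat.eq_one_of_dvd_coprimes T.hcop h2 dvd_rfl)

theorem topE_le_rightStab {y : G} (hy : idx y = m) : topE G m ≤ rightStab y := by
  rw [topE, gen, closure_le]
  rintro _ ⟨v, hv, g, rfl⟩
  have hco : (idx y).Coprime (idx v) := by rw [hy]; exact Nat.Coprime.symm hv
  refine mem_rightStab_of_idx_eq hco (le_antisymm ?_ (idx_le_idx_mul hco)) g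
  rw [hy]
  exact T.htop _

theorem card_topE_dvd : Nat.card (topE G m) ∣ m := by
  obtain ⟨y, hy⟩ := T.hy
  have := (card_dvd_of_le (T.topE_le_rightStab hy)).trans (card_rightStab_dvd y)
  rwa [hy] at this

theorem coprime_card_topE {v : G} (hv : (idx v).Coprime m) :
    (Nat.card (topE G m)).Coprime (idx v) :=
  Nat.Coprime.coprime_dvd_left T.card_topE_dvd hv.symm

theorem topE_comm : ∀ x ∈ topE G m, ∀ y ∈ topE G m, x * y = y * x :=
  gen_comm fun _ hv => T.coprime_card_topE hv

theorem exists_central_mul_topE {v : G} (hv : (idx v).Coprime m) :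
    ∃ z ∈ center G, ∃ c ∈ topE G m, v = z * c :=
  exists_central_mul _ T.topE_comm (T.coprime_card_topE hv) fun g =>
    mem_gen (V := {v : G | (idx v).Coprime m}) hv g

theorem exists_u : ∃ u ∈ topE G m, idx u = n := by
  obtain ⟨x, hx⟩ := T.hx
  obtain ⟨z, hz, c, hc, rfl⟩ := T.exists_central_mul_topE (v := x) (by rw [hx]; exact T.hcop.symm)
  exact ⟨c, hc, by rw [← idx_mul_central hz, hx]⟩

variable {u : G} (hu : u ∈ topE G m) (hun : idx u = n)
include hu hun

theorem topE_le_cent : topE G m ≤ centralizer ({u} : Set G) :=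
  fun e he => mem_cent.2 (T.topE_comm e he u hu)

theorem central_of_coprime {v : G} (hv : v ∈ centralizer ({u} : Set G))
    (ho : (orderOf v).Coprime (Nat.card (topE G m))) : v ∈ center G := by
  have hc : Commute u v := (mem_cent.1 hv).symm
  have hco : (orderOf u).Coprime (orderOf v) := by
    refine Nat.Coprime.coprime_dvd_left ?_ ho.symm
    simpa [Subgroup.orderOf_mk] using orderOf_dvd_natCard (⟨u, hu⟩ : topE G m)
  have hC := cent_mul_of_coprime hc hco
  have hle : centralizer ({u * v} : Set G) ≤ centralizer ({u} : Set G) := hC.trans_le inf_le_left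
  have h1 : idx (u * v) = n := T.eq_n_of_dvd (hun ▸ index_dvd_of_le hle)
  have heq := eq_of_le_of_index_le hle (h1.trans hun.symm).le
  have hd : idx v ∣ n := hun ▸ index_dvd_of_le (heq ▸ hC.trans_le inf_le_right)
  obtain ⟨z, hz, c, hc', rfl⟩ := T.exists_central_mul_topE
    (Nat.Coprime.coprime_dvd_left hd T.hcop.symm)
  obtain ⟨l, hl⟩ := exists_pow_eq_self_of_coprime (x := z * c) (n := Nat.card (topE G m)) ho.symm
  rw [← hl]
  refine pow_mem ?_ l
  have hcomm : Commute z c := (mem_center_iff.1 hz c).symm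
  rw [hcomm.mul_pow, show c ^ Nat.card (topE G m) = 1 from
    congrArg Subtype.val (pow_card_eq_one' (x := (⟨c, hc'⟩ : topE G m))), mul_one]
  exact pow_mem hz _

theorem idx_ne_m {w : G} (hw : w ∈ centralizer ({u} : Set G)) : idx w ≠ m := by
  intro hwm
  obtain ⟨r, hr, hrn⟩ := Nat.exists_prime_and_dvd T.hn.ne'
  haveI := Fact.mk hr
  have hrm : ¬ r ∣ m := fun h => hr.ne_one (Nat.eq_one_of_dvd_coprimes T.hcop h hrn)
  have hrE : ¬ r ∣ Nat.card (topE G m) := fun h => hrm (h.trans T.card_topE_dvd)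
  obtain ⟨a, w', rfl, hc, ⟨k, hk⟩, hw', haz, hw'z⟩ := ClassSize.exists_pParts (p := r) w
  have haC : a ∈ centralizer ({u} : Set G) := (zpowers_le.2 hw) haz
  have ha : a ∈ center G := T.central_of_coprime hu hun haC (by
    rw [hk]; exact Nat.Coprime.pow_left _ ((Nat.Prime.coprime_iff_not_dvd hr).2 hrE))
  rw [idx_mul_central ha] at hwm
  have hw'u : w' ∈ centralizer ({u} : Set G) := (zpowers_le.2 hw) hw'z
  obtain ⟨R, hR⟩ := ClassSize.exists_sylow_le_centralizer (p := r) (x := w')
    (show ¬ r ∣ idx w' by rw [hwm]; exact hrm)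
  refine (ClassSize.not_dvd_index_iff (p := r) (x := u)).2 ⟨R, fun b hb => ?_⟩
    (show r ∣ idx u by rw [hun]; exact hrn)
  obtain ⟨j, hj⟩ := IsPGroup.iff_orderOf.1 R.isPGroup' ⟨b, hb⟩
  have hbo : orderOf b = r ^ j := by rw [← hj, Subgroup.orderOf_mk]
  have hbc : Commute w' b := (mem_cent.1 (hR hb)).symm
  have hC := cent_mul_of_coprime hbc (by rw [hbo]; exact hw'.pow_right j)
  have hle : centralizer ({w' * b} : Set G) ≤ centralizer ({w'} : Set G) :=
    hC.trans_le inf_le_left
  have heq := eq_of_le_of_index_le hle (show idx (w' * b) ≤ idx w' by rw [hwm]; exact T.htop _)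
  have hub : u ∈ centralizer ({b} : Set G) :=
    (heq ▸ hC.trans_le inf_le_right) (mem_cent.2 (mem_cent.1 hw'u).symm)
  exact mem_cent.2 (mem_cent.1 hub).symm

theorem central_of_coprime_n {v : G} (hv : (idx v).Coprime n) (hvm : idx v ≠ m) :
    v ∈ center G := by
  have hco : (idx u).Coprime (idx v) := by rw [hun]; exact hv.symm
  have h1 : n ≤ idx (u * v) := hun ▸ idx_le_idx_mul hco
  have h2 : idx (u * v) = n := by
    refine le_antisymm (T.le_n fun e => hvm ?_) h1
    have h3 := idx_mul_dvd hco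
    rw [hun, e] at h3
    exact le_antisymm (T.htop v) (Nat.le_of_dvd (idx_pos v) (T.hcop.dvd_of_dvd_mul_left h3))
  set D := gen ({v} : Set G) with hD
  have hDn : Nat.card D ∣ n := by
    refine (card_dvd_of_le (?_ : D ≤ rightStab u)).trans (hun ▸ card_rightStab_dvd u)
    rw [hD, gen, closure_le]
    rintro _ ⟨v', hv', g, rfl⟩
    rw [Set.mem_singleton_iff] at hv'
    subst hv'
    exact mem_rightStab_of_idx_eq hco (by rw [h2, hun]) g
  have hDv : (Nat.card D).Coprime (idx v) := Nat.Coprime.coprime_dvd_left hDn hv.symm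
  obtain ⟨z, hz, c, hc, rfl⟩ := exists_central_mul D
    (gen_comm fun v' hv' => by rw [Set.mem_singleton_iff.1 hv']; exact hDv) hDv
    (fun g => mem_gen (Set.mem_singleton _) g)
  have hcoE : (Nat.card D).Coprime (Nat.card (topE G m)) :=
    Nat.Coprime.coprime_dvd_left hDn (Nat.Coprime.coprime_dvd_right T.card_topE_dvd T.hcop.symm)
  refine mul_mem hz (T.central_of_coprime hu hun (mem_cent.2 ?_) ?_)
  · exact (Subgroup.commute_of_normal_of_disjoint D (topE G m) inferInstance inferInstance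
      (Subgroup.disjoint_of_coprime_natCard hcoE) c u hc hu).eq
  · refine Nat.Coprime.coprime_dvd_left ?_ hcoE
    simpa [Subgroup.orderOf_mk] using orderOf_dvd_natCard (⟨c, hc⟩ : D)

omit hu hun in
theorem central_of_pow_prime {p : ℕ} [Fact p.Prime] (hpm : p ∣ m) {w : G} {k : ℕ}
    (hk : orderOf w = p ^ k) (hw : (idx w).Coprime n) : w ∈ center G := by
  obtain ⟨u, hu, hun⟩ := T.exists_u
  refine T.central_of_coprime_n hu hun hw fun hwm => ?_
  have hpn : ¬ p ∣ n := fun h =>
    (Fact.out : p.Prime).ne_one (Nat.eq_one_of_dvd_coprimes T.hcop hpm h)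
  obtain ⟨P, hP⟩ := ClassSize.exists_sylow_le_centralizer (p := p) (x := u)
    (show ¬ p ∣ idx u by rw [hun]; exact hpn)
  have hpg : IsPGroup p (zpowers w) := IsPGroup.of_card (n := k) (by rw [Nat.card_zpowers, hk])
  obtain ⟨Q, hQ⟩ := hpg.exists_le_sylow
  obtain ⟨g, hg⟩ := MulAction.exists_smul_eq G Q P
  have hgw : g * w * g⁻¹ ∈ (P : Subgroup G) := by
    rw [← hg, Sylow.coe_subgroup_smul, Subgroup.mem_pointwise_smul_iff_inv_smul_mem]
    simpa [MulAut.smul_def, mul_assoc] using hQ (mem_zpowers w)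
  exact T.idx_ne_m hu hun (hP hgw) (by rw [idx_conj, hwm])

omit hu hun in
theorem exists_split {v : G} (hv : idx v = m) :
    ∃ z ∈ center G, ∃ w ∈ zpowers v, (orderOf w).Coprime (Nat.card (topE G m)) ∧ v = z * w := by
  refine exists_coprime_part Nat.card_pos (o := orderOf (QuotientGroup.mk v : G ⧸ center G)) ?_ ?_
  · rw [← QuotientGroup.eq_one_iff, QuotientGroup.mk_pow, pow_orderOf_eq_one]
  · refine Nat.coprime_of_dvd fun p hp h1 h2 => ?_
    haveI := Fact.mk hp
    have hpm : p ∣ m := h2.trans T.card_topE_dvd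
    obtain ⟨a, b, rfl, hc, ⟨k, hk⟩, hb, haz, -⟩ := ClassSize.exists_pParts (p := p) v
    have hd : idx a ∣ m := hv ▸ index_dvd_of_le (cent_le_cent_of_mem_zpowers haz)
    have ha := T.central_of_pow_prime hpm hk (Nat.Coprime.coprime_dvd_left hd T.hcop)
    rw [QuotientGroup.mk_mul, (QuotientGroup.eq_one_iff a).2 ha, one_mul] at h1
    exact (Nat.Prime.coprime_iff_not_dvd hp).1 hb.symm
      (h1.trans (orderOf_map_dvd (QuotientGroup.mk' (center G)) b))

omit hu hun in
theorem central_of_mem_cent {v w : G} (hv : idx v = m) (hw : w ∈ centralizer ({v} : Set G))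
    {p : ℕ} [Fact p.Prime] (hpm : p ∣ Nat.card (topE G m)) {k : ℕ} (hk : orderOf w = p ^ k) :
    w ∈ center G := by
  obtain ⟨z, hz, v', -, hv', rfl⟩ := T.exists_split hv
  rw [idx_mul_central hz] at hv
  rw [cent_mul_central hz] at hw
  have hc : Commute v' w := (mem_cent.1 hw).symm
  have hC := cent_mul_of_coprime hc (by
    rw [hk]; exact (Nat.Coprime.coprime_dvd_right hpm hv').pow_right k)
  have hle : centralizer ({v' * w} : Set G) ≤ centralizer ({v'} : Set G) :=
    hC.trans_le inf_le_left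
  have heq := eq_of_le_of_index_le hle (show idx (v' * w) ≤ idx v' by rw [hv]; exact T.htop _)
  have hd : idx w ∣ m := hv ▸ index_dvd_of_le (heq ▸ hC.trans_le inf_le_right)
  exact T.central_of_pow_prime (hpm.trans T.card_topE_dvd) hk
    (Nat.Coprime.coprime_dvd_left hd T.hcop)

theorem dvd_card_topE_of_dvd_relIndex {p : ℕ} [Fact p.Prime]
    (h : p ∣ (center G).relIndex (centralizer ({u} : Set G))) : p ∣ Nat.card (topE G m) := by
  by_contra hn'
  refine not_dvd_relIndex_center (fun w hw ⟨k, hk⟩ => ?_) h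
  exact T.central_of_coprime hu hun hw (by
    rw [hk]; exact Nat.Coprime.pow_left _ ((Nat.Prime.coprime_iff_not_dvd Fact.out).2 hn'))

theorem inf_cent_eq_center {v : G} (hv : idx v = m) :
    centralizer ({u} : Set G) ⊓ centralizer ({v} : Set G) = center G := by
  have hZ : ∀ x : G, center G ≤ centralizer ({x} : Set G) := fun x z hz =>
    mem_cent.2 (mem_center_iff.1 hz x).symm
  refine le_antisymm ?_ (le_inf (hZ u) (hZ v))
  rw [← relIndex_eq_one]
  by_contra hne
  obtain ⟨p, hp, hpd⟩ := Nat.exists_prime_and_dvd hne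
  haveI := Fact.mk hp
  have hd : ∀ {A B : Subgroup G}, A ≤ B → center G ≤ A →
      (center G).relIndex A ∣ (center G).relIndex B := fun hAB hA =>
    ⟨_, (relIndex_mul_relIndex _ _ _ hA hAB).symm⟩
  have hle := le_inf (hZ u) (hZ v)
  have h1 := T.dvd_card_topE_of_dvd_relIndex hu hun (hpd.trans (hd inf_le_left hle))
  exact not_dvd_relIndex_center (fun w hw ⟨k, hk⟩ => T.central_of_mem_cent hv hw h1 hk)
    (hpd.trans (hd inf_le_right hle))

omit hu hun in
theorem index_center : (center G).index = n * m := by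
  obtain ⟨u, hu, hun⟩ := T.exists_u
  obtain ⟨y, hy⟩ := T.hy
  rw [← T.inf_cent_eq_center hu hun hy, index_inf_of_coprime, ← hun, ← hy]
  · rfl
  · show (idx u).Coprime (idx y)
    rw [hun, hy]
    exact T.hcop.symm

omit hu hun in
theorem relIndex_center_cent {v : G} (hv : idx v = m) :
    (center G).relIndex (centralizer ({v} : Set G)) = n := by
  have h := relIndex_mul_index (H := center G) (K := centralizer ({v} : Set G))
    (fun z hz => mem_cent.2 (mem_center_iff.1 hz v).symm)
  rw [show (centralizer ({v} : Set G)).index = m from hv, T.index_center] at h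
  exact Nat.eq_of_mul_eq_mul_right (lt_trans (zero_lt_one.trans T.hn) T.hmn) h

theorem relIndex_center_cent_u :
    (center G).relIndex (centralizer ({u} : Set G)) = m := by
  have h := relIndex_mul_index (H := center G) (K := centralizer ({u} : Set G))
    (fun z hz => mem_cent.2 (mem_center_iff.1 hz u).symm)
  rw [show (centralizer ({u} : Set G)).index = n from hun, T.index_center, mul_comm n m] at h
  exact Nat.eq_of_mul_eq_mul_right (zero_lt_one.trans T.hn) h

omit hu hun in
theorem dvd_card_topE_of_dvd {p : ℕ} (hp : p.Prime) (h : p ∣ m) : p ∣ Nat.card (topE G m) := by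
  haveI := Fact.mk hp
  obtain ⟨u, hu, hun⟩ := T.exists_u
  refine T.dvd_card_topE_of_dvd_relIndex hu hun ?_
  rwa [T.relIndex_center_cent_u hu hun]

omit hu hun in
theorem coprime_n_card_topE : n.Coprime (Nat.card (topE G m)) :=
  Nat.Coprime.coprime_dvd_right T.card_topE_dvd T.hcop.symm

omit hu hun in
theorem topE_inf_center : topE G m ⊓ center G = ⊥ := by
  rw [eq_bot_iff]
  intro c hc
  obtain ⟨hcE, hcZ⟩ := mem_inf.1 hc
  obtain ⟨y, hy⟩ := T.hy
  obtain ⟨z, hz, y', -, hy', rfl⟩ := T.exists_split hy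
  rw [idx_mul_central hz] at hy
  obtain ⟨g, hg⟩ := (T.topE_le_rightStab hy hcE y').1 (self_mem_cls y')
  have hcomm : Commute y' c := mem_center_iff.1 hcZ y'
  have hcd : orderOf c ∣ Nat.card (topE G m) := by
    simpa [Subgroup.orderOf_mk] using orderOf_dvd_natCard (⟨c, hcE⟩ : topE G m)
  have hco := Nat.Coprime.coprime_dvd_right hcd hy'
  have h1 : orderOf (y' * c) = orderOf y' := by
    rw [← hg]
    exact orderOf_injective (MulAut.conj g).toMonoidHom (MulAut.conj g).injective y'
  rw [hcomm.orderOf_mul_eq_mul_orderOf_of_coprime hco] at h1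
  exact mem_bot.2 (orderOf_eq_one_iff.1 ((Nat.mul_eq_left (orderOf_pos y').ne').1 h1))

end Top

end Cfsg.Agent.Lib.ClassSizeTop
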